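import Cfsg.Agent.Lib.HHShult.Perfect.Layer

/-!
# Conjugation by a normalising element of prime order (owner: helper4)

* `conjAut G a hn` : conjugation by `a` on `G`, with `fix` and `cm` in terms of `X`
-/

set_option autoImplicit false

namespace Cfsg.Agent.HHShult.Perfect

open Subgroup
open scoped commutatorElement

universe u

variable {X : Type u} [Group X] {G : Subgroup X} {a : X}

/-- Conjugation by an element normalising `G`. -/
def conjAut (G : Subgroup X) (a : X) (hn : a ∈ normalizer (G : Set X)) : MulAut G :=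
  G.normalizerMonoidHom ⟨a, hn⟩

theorem conjAut_apply (hn : a ∈ normalizer (G : Set X)) (x : G) :
    ((conjAut G a hn x : G) : X) = a * x * a⁻¹ := rfl

theorem conjAut_pow_apply (hn : a ∈ normalizer (G : Set X)) (n : ℕ) (x : G) :
    (((conjAut G a hn ^ n) x : G) : X) = a ^ n * x * (a ^ n)⁻¹ := by
  rw [conjAut, ← map_pow]; rfl

theorem cop_conjAut (hn : a ∈ normalizer (G : Set X)) {r : ℕ} (hr : r.Prime) (ha : a ^ r = 1)
    (hcop : (Nat.card G).Coprime r) : Cop (conjAut G a hn) r :=
  ⟨hr, by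
    have h : (⟨a, hn⟩ : normalizer (G : Set X)) ^ r = 1 := Subtype.ext ha
    rw [conjAut, ← map_pow, h, map_one],
    hr.coprime_iff_not_dvd.1 hcop.symm⟩

theorem mem_fix_conjAut (hn : a ∈ normalizer (G : Set X)) {x : G} :
    x ∈ fix (conjAut G a hn) ↔ (x : X) ∈ centralizer (zpowers a : Set X) := by
  rw [mem_fix, Subtype.ext_iff, conjAut_apply, mul_inv_eq_iff_eq_mul, mem_centralizer_iff]
  constructor
  · intro h b hb
    obtain ⟨n, rfl⟩ := mem_zpowers_iff.1 hb
    exact (show Commute a x from h).zpow_left n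
  · exact fun h => h a (mem_zpowers a)

variable [Finite X]

theorem map_cm_conjAut (hn : a ∈ normalizer (G : Set X)) {H : Subgroup G}
    (hH : Inv (conjAut G a hn) H) :
    (cm (conjAut G a hn) H).map G.subtype = ⁅H.map G.subtype, zpowers a⁆ := by
  set α := conjAut G a hn with hα
  refine le_antisymm ?_ (commutator_le.2 ?_)
  · rw [cm, MonoidHom.map_closure, closure_le]
    rintro _ ⟨_, ⟨x, hx, rfl⟩, rfl⟩
    have e : G.subtype (x⁻¹ * α x) = ⁅((x : X))⁻¹, a⁆ := by
      show (x : X)⁻¹ * (α x : X) = _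
      rw [hα, conjAut_apply, commutatorElement_def]; group
    rw [e]
    exact commutator_mem_commutator ⟨x⁻¹, inv_mem hx, rfl⟩ (mem_zpowers a)
  · rintro _ ⟨g, hg, rfl⟩ b hb
    obtain ⟨m, rfl⟩ : ∃ m : ℕ, a ^ m = b := mem_powers_iff_mem_zpowers.2 hb
    have key : ∀ (m : ℕ), ∀ x ∈ H, x⁻¹ * (α ^ m) x ∈ cm α H := by
      intro m
      induction m with
      | zero => intro x _; simpa using one_mem _
      | succ m ih =>
        intro x hx
        have e : x⁻¹ * (α ^ (m + 1)) x = (x⁻¹ * α x) * ((α x)⁻¹ * (α ^ m) (α x)) := by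
          rw [pow_succ, MulAut.mul_apply]; group
        rw [e]
        exact mul_mem (subset_cm hx) (ih _ (hH x hx))
    refine ⟨_, key m g⁻¹ (inv_mem hg), ?_⟩
    show ((g : X)⁻¹)⁻¹ * ((((α ^ m) g⁻¹) : G) : X) = ⁅(g : X), a ^ m⁆
    rw [hα, conjAut_pow_apply, commutatorElement_def, Subgroup.coe_inv]
    group

end Cfsg.Agent.HHShult.Perfect
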