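import Cfsg.Agent.Lib.HHShult.Perfect.Main
import Cfsg.Agent.Lib.Components.Basic

/-!
# Families of commuting quasisimple subgroups permuted by a coprime automorphism (owner: helper4)

* `IsFamily` : a set of quasisimple subgroups, distinct members commuting
* `IsFamily.cm_sSup` : if `α` permutes the family and moves every member, `[sSup T, α] = sSup T`
* `IsFamily.le_centralizer` : then a subgroup `M` normalised by the family, with `C_M(α)` centralised
  by the family, is centralised by it
-/

set_option autoImplicit false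

namespace Cfsg.Agent.HHShult.Perfect

open Subgroup Cfsg.Agent.Components
open scoped commutatorElement

universe u

variable {G : Type u} [Group G]

theorem isPerfect_bracket {S : Subgroup G} (h : Cfsg.IsQuasisimple S) : ⁅S, S⁆ = S :=
  Subgroup.isPerfect_iff.mp h.1

theorem not_le_centralizer_self {S : Subgroup G} (h : Cfsg.IsQuasisimple S) :
    ¬ S ≤ centralizer (S : Set G) := fun hle => by
  have h1 : S = ⊥ := (isPerfect_bracket h).symm.trans (commutator_eq_bot_iff_le_centralizer.mpr hle)
  exact (Subgroup.nontrivial_iff_ne_bot S).mp (IsQuasisimple.nontrivial h) h1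

/-- Two mutually normalising subgroups, one of them quasisimple. -/
theorem le_or_commutes_of_le_normalizer {L S : Subgroup G} (hL : Cfsg.IsQuasisimple L)
    (h1 : L ≤ normalizer (S : Set G)) (h2 : S ≤ normalizer (L : Set G)) :
    L ≤ S ∨ ⁅L, S⁆ = ⊥ := by
  haveI : (S.subgroupOf L).Normal := normal_subgroupOf_of_le_normalizer h1
  rcases IsQuasisimple.normal_eq_top_or_le_center hL (S.subgroupOf L) with h | h
  · exact Or.inl (subgroupOf_eq_top.mp h)
  · refine Or.inr (commutator_eq_bot_of_perfect_of_le (isPerfect_bracket hL) (Z := S ⊓ L) ?_ ?_)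
    · refine le_inf ?_ ?_
      · exact le_normalizer_iff_commutator_le_right.mp h1
      · rw [commutator_comm]; exact le_normalizer_iff_commutator_le_right.mp h2
    · rw [← subgroupOf_map_subtype S L, ← le_center_iff_commutator_eq_bot]
      exact h

/-- A set of quasisimple subgroups in which distinct members commute. -/
structure IsFamily (T : Set (Subgroup G)) : Prop where
  qs : ∀ L ∈ T, Cfsg.IsQuasisimple L
  comm : ∀ L ∈ T, ∀ L' ∈ T, L ≠ L' → ⁅L, L'⁆ = ⊥

variable {T : Set (Subgroup G)}

theorem IsFamily.subset (hT : IsFamily T) {T' : Set (Subgroup G)} (h : T' ⊆ T) : IsFamily T' :=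
  ⟨fun L hL => hT.qs L (h hL), fun L hL L' hL' => hT.comm L (h hL) L' (h hL')⟩

theorem IsFamily.sSup_le_normalizer (hT : IsFamily T) {L : Subgroup G} (hL : L ∈ T) :
    sSup T ≤ normalizer (L : Set G) := sSup_le fun L' hL' => by
  by_cases h : L' = L
  · exact h ▸ le_normalizer
  · rw [le_normalizer_iff_commutator_le_right, hT.comm L' hL' L hL h]
    exact bot_le

theorem IsFamily.perfect (hT : IsFamily T) : ⁅sSup T, sSup T⁆ = sSup T :=
  le_antisymm (commutator_le_self _) <| sSup_le fun L hL =>
    (isPerfect_bracket (hT.qs L hL)).symm.le.trans (commutator_mono (le_sSup hL) (le_sSup hL))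

variable [Finite G] {α : MulAut G} {r : ℕ}

omit [Finite G] in
theorem inv_sSup (hTα : ∀ L ∈ T, L.map α.toMonoidHom ∈ T) : Inv α (sSup T) := fun x hx => by
  have h : sSup T ≤ (sSup T).comap α.toMonoidHom := sSup_le fun L hL =>
    map_le_iff_le_comap.mp (le_sSup (hTα L hL))
  exact h hx

omit [Finite G] in
/-- If `α` permutes the family, a member it moves lies in `[sSup T, α]`. -/
theorem IsFamily.le_cm (hT : IsFamily T) (hTα : ∀ L ∈ T, L.map α.toMonoidHom ∈ T)
    {L : Subgroup G} (hL : L ∈ T) (hne : ¬ L ≤ fix α) : L ≤ cm α (sSup T) := by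
  have hS : cm α (sSup T) ≤ sSup T := cm_le (inv_sSup hTα)
  refine (le_or_commutes_of_le_normalizer (hT.qs L hL) ((le_sSup hL).trans le_normalizer_cm)
    (hS.trans (hT.sSup_le_normalizer hL))).resolve_right fun h => hne ?_
  -- otherwise `x⁻¹ α(x)` centralises `L` for all `x ∈ L`
  have hc : ∀ x ∈ L, ∀ y ∈ L, Commute y (x⁻¹ * α x) := fun x hx y hy => by
    have h1 := commutator_mem_commutator hy (subset_cm (α := α) (le_sSup hL hx))
    rw [h, Subgroup.mem_bot] at h1
    exact commutatorElement_eq_one_iff_commute.mp h1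
  by_cases hLL : L.map α.toMonoidHom = L
  · -- then `x⁻¹ α(x)` is central in `L`, and `α` fixes commutators
    rw [← isPerfect_bracket (hT.qs L hL), commutator_le]
    intro x hx y hy
    show α ⁅x, y⁆ = ⁅x, y⁆
    have hm : ∀ z ∈ L, z⁻¹ * α z ∈ L := fun z hz =>
      L.mul_mem (L.inv_mem hz) (hLL.le ⟨z, hz, rfl⟩)
    have hx' : α x = x * (x⁻¹ * α x) := (mul_inv_cancel_left _ _).symm
    have hy' : α y = y * (y⁻¹ * α y) := (mul_inv_cancel_left _ _).symm
    rw [map_commutatorElement, hx', hy']
    generalize hcx : x⁻¹ * α x = cx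
    generalize hcy : y⁻¹ * α y = cy
    have a1 : Commute y cx := hcx ▸ hc x hx y hy
    have a2 : Commute x cy := hcy ▸ hc y hy x hx
    have a3 : Commute cx cy := hcy ▸ hc y hy cx (hcx ▸ hm x hx)
    have a4 : Commute x cx := hcx ▸ hc x hx x hx
    have a5 : Commute y cy := hcy ▸ hc y hy y hy
    have a6 : Commute cx (y * cy) := a1.symm.mul_right a3
    calc ⁅x * cx, y * cy⁆ = x * (cx * (y * cy) * cx⁻¹) * x⁻¹ * (y * cy)⁻¹ := by
          rw [commutatorElement_def]; group
      _ = x * (y * cy) * x⁻¹ * (y * cy)⁻¹ := by rw [a6.eq, mul_inv_cancel_right]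
      _ = x * y * (cy * x⁻¹ * cy⁻¹) * y⁻¹ := by group
      _ = ⁅x, y⁆ := by
          rw [(a2.inv_left.symm).eq, mul_inv_cancel_right, commutatorElement_def]
  · -- then `L` is abelian
    refine absurd ?_ (not_le_centralizer_self (hT.qs L hL))
    intro x hx y hy
    have h1 : Commute y (α x) := by
      have h2 := commutator_mem_commutator hy (show α x ∈ L.map α.toMonoidHom from ⟨x, hx, rfl⟩)
      rw [hT.comm L hL _ (hTα L hL) (Ne.symm hLL), Subgroup.mem_bot] at h2
      exact commutatorElement_eq_one_iff_commute.mp h2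
    have h3 := h1.mul_right (hc x hx y hy).inv_right
    rwa [show α x * (x⁻¹ * α x)⁻¹ = x by group] at h3

omit [Finite G] in
theorem IsFamily.cm_sSup (hT : IsFamily T) (hTα : ∀ L ∈ T, L.map α.toMonoidHom ∈ T)
    (hmov : ∀ L ∈ T, ¬ L ≤ fix α) : cm α (sSup T) = sSup T :=
  le_antisymm (cm_le (inv_sSup hTα)) (sSup_le fun L hL => hT.le_cm hTα hL (hmov L hL))

/-- A moved family centralising `C_M(α)` centralises `M`. -/
theorem IsFamily.le_centralizer (hT : IsFamily T) (hc : Cop α r)
    (hTα : ∀ L ∈ T, L.map α.toMonoidHom ∈ T) (hmov : ∀ L ∈ T, ¬ L ≤ fix α)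
    {M : Subgroup G} (hM : Inv α M) (hN : ∀ L ∈ T, L ≤ normalizer (M : Set G))
    (hfix : ∀ L ∈ T, L ≤ centralizer ((M ⊓ fix α : Subgroup G) : Set G)) :
    sSup T ≤ centralizer (M : Set G) := by
  set E := sSup T with hE
  have hEi : Inv α E := inv_sSup hTα
  have hEN : E ≤ normalizer (M : Set G) := sSup_le hN
  have hEC : E ≤ centralizer ((M ⊓ fix α : Subgroup G) : Set G) := sSup_le hfix
  let θ : E →* MulAut M := M.normalizerMonoidHom.comp (Subgroup.inclusion hEN)
  have hθ : ∀ (e : E) (x : M), ((θ e x : M) : G) = e * x * (e : G)⁻¹ := fun e x => rfl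
  have hcm : cm (restrictTo α E hEi) ⊤ = ⊤ := by
    apply Subgroup.map_injective E.subtype_injective
    rw [map_cm E.subtype (α := restrictTo α E hEi) (β := α) (fun x => coe_restrictTo α E hEi x),
      ← MonoidHom.range_eq_map, range_subtype, hE, hT.cm_sSup hTα hmov]
  have hperf : _root_.commutator E = ⊤ := by
    apply Subgroup.map_injective E.subtype_injective
    rw [map_subtype_commutator, hT.perfect, ← MonoidHom.range_eq_map, range_subtype]
  have key := apply_eq (cop_restrictTo hc M hM) (cop_restrictTo hc E hEi) hperf hcm θ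
    (fun e x => Subtype.ext (by
      show α ((e : G) * x * (e : G)⁻¹) = α e * α x * (α e)⁻¹
      rw [map_mul, map_mul, map_inv]))
    (fun x hx e => Subtype.ext (by
      have h : (x : G) ∈ M ⊓ fix α := ⟨x.2, congrArg Subtype.val hx⟩
      rw [hθ, mul_inv_eq_iff_eq_mul]
      exact (hEC e.2 x h).symm))
  intro e he x hx
  have h := congrArg Subtype.val (key ⟨e, he⟩ ⟨x, hx⟩)
  rw [hθ] at h
  exact (mul_inv_eq_iff_eq_mul.mp h).symm

end Cfsg.Agent.HHShult.Perfect
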