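import Cfsg.Agent.Lib.HHShult.Act
import Cfsg.Agent.Lib.FusionZStar.Center
import Cfsg.Agent.Lib.OddOrderTheorem.Basic
import Cfsg.Agent.Lib.Cores.Basic

/-!
# Perfect groups of automorphisms fixing a Sylow 2-subgroup (owner: helper4)

* `apply_eq_of_mul` : a perfect group of automorphisms stabilising a series is trivial on it
* `fix_normalizer` : if it fixes `D` and `C(D)` it fixes `N(D)`
* `eq_bot_of_fix_sylow` : if it fixes a Sylow 2-subgroup `P` and `C(Z(P))`, and `O_{2'}(M) = 1`,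
  it is trivial (every involution would be isolated, so Z* applies)
-/

set_option autoImplicit false

namespace Cfsg.Agent.HHShult.Perfect

open scoped commutatorElement

universe u

variable {M : Type u} [Group M] [Finite M]

omit [Finite M] in
theorem apply_eq_of_mul {A : Subgroup (MulAut M)} (hA : ⁅A, A⁆ = A) {x : M} {C : Subgroup M}
    (hCc : ∀ c ∈ C, ∀ d ∈ C, c * d = d * c) (hCf : ∀ a ∈ A, ∀ c ∈ C, a c = c)
    (hx : ∀ a ∈ A, x⁻¹ * a x ∈ C) {a : MulAut M} (ha : a ∈ A) : a x = x := by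
  let f : A →* C :=
    { toFun := fun b => ⟨x⁻¹ * (b : MulAut M) x, hx b b.2⟩
      map_one' := Subtype.ext (by simp)
      map_mul' := fun b c => Subtype.ext (by
        show x⁻¹ * ((b : MulAut M) * (c : MulAut M)) x =
          x⁻¹ * (b : MulAut M) x * (x⁻¹ * (c : MulAut M) x)
        have h1 : (c : MulAut M) x = x * (x⁻¹ * (c : MulAut M) x) := by group
        rw [MulAut.mul_apply]
        conv_lhs => rw [h1, map_mul, hCf b b.2 _ (hx c c.2)]
        group) }
  have hker : ⁅A, A⁆ ≤ f.ker.map A.subtype := Subgroup.commutator_le.2 fun p hp q hq => by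
    refine ⟨⁅(⟨p, hp⟩ : A), ⟨q, hq⟩⁆, ?_, by rw [map_commutatorElement]; rfl⟩
    show f _ = 1
    rw [map_commutatorElement, commutatorElement_eq_one_iff_mul_comm]
    exact Subtype.ext (hCc _ (f _).2 _ (f _).2)
  rw [hA] at hker
  obtain ⟨b, hb, rfl⟩ := hker ha
  have h : x⁻¹ * (b : MulAut M) x = 1 := congrArg Subtype.val (MonoidHom.mem_ker.1 hb)
  exact (inv_mul_eq_one.1 h).symm

omit [Finite M] in
theorem fix_normalizer {A : Subgroup (MulAut M)} (hA : ⁅A, A⁆ = A) {D : Subgroup M}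
    (hD : ∀ a ∈ A, ∀ y ∈ D, a y = y)
    (hC : ∀ a ∈ A, ∀ y ∈ Subgroup.centralizer (D : Set M), a y = y) {x : M}
    (hx : x ∈ Subgroup.normalizer (D : Set M)) {a : MulAut M} (ha : a ∈ A) : a x = x := by
  set Z := Subgroup.centralizer (D : Set M) with hZ
  refine apply_eq_of_mul hA (C := Z ⊓ Subgroup.centralizer (Z : Set M))
    (fun c hc d hd => Subgroup.mem_centralizer_iff.1 hd.2 c hc.1) (fun b hb c hc => hC b hb c hc.1)
    (fun b hb => ?_) ha
  -- conjugation by `b x` and by `x` agree on `D` and on `C(D)`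
  have key : ∀ y : M, b y = y → b (x * y * x⁻¹) = x * y * x⁻¹ →
      y * (x⁻¹ * b x) = x⁻¹ * b x * y := fun y hy hy' => by
    rw [map_mul, map_mul, map_inv, hy] at hy'
    calc y * (x⁻¹ * b x) = x⁻¹ * (x * y * x⁻¹) * b x := by group
      _ = x⁻¹ * (b x * y * (b x)⁻¹) * b x := by rw [hy']
      _ = _ := by group
  refine ⟨Subgroup.mem_centralizer_iff.2 fun y hy =>
      key y (hD b hb y hy) (hD b hb _ ((Subgroup.mem_normalizer_iff.1 hx y).1 hy)),
    Subgroup.mem_centralizer_iff.2 fun y hy => key y (hC b hb y hy) (hC b hb _ ?_)⟩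
  refine Subgroup.mem_centralizer_iff.2 fun d hd => ?_
  have hd' : x⁻¹ * d * x ∈ D := by
    have := (Subgroup.mem_normalizer_iff.1 (inv_mem hx) d).1 hd
    simpa using this
  have h := Subgroup.mem_centralizer_iff.1 hy _ hd'
  calc d * (x * y * x⁻¹) = x * (x⁻¹ * d * x * y) * x⁻¹ := by group
    _ = _ := by rw [h]; group

/-- The combinatorial core: an involution of `A` has no proper `P`-conjugate in its coset. -/
theorem fix_of_mul_inv_mem {A : Subgroup (MulAut M)} (hA : ⁅A, A⁆ = A) (P : Sylow 2 M)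
    (hP : ∀ a ∈ A, ∀ y ∈ P, a y = y)
    (hZ : ∀ a ∈ A, ∀ y ∈ Subgroup.centralizer
      (((P : Subgroup M) ⊓ Subgroup.centralizer ((P : Subgroup M) : Set M) : Subgroup M) : Set M),
      a y = y)
    {v : MulAut M} (hv : v ∈ A) (hv2 : v * v = 1) :
    ∀ m : M, m * (v m)⁻¹ ∈ P → v m = m := by
  haveI : Fact (Nat.Prime 2) := ⟨Nat.prime_two⟩
  classical
  set P0 := (P : Subgroup M) with hP0
  let D : M → Subgroup M := fun w => P0 ⊓ Subgroup.centralizer ({w} : Set M)
  by_contra h
  push Not at h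
  obtain ⟨m₁, hm₁P, hm₁⟩ := h
  let s : Set M := {w | w ∈ P0 ∧ w ≠ 1 ∧ ∃ m, m * (v m)⁻¹ = w}
  obtain ⟨w, ⟨hwP, hw1, m₀, hm₀⟩, hmax⟩ := Set.exists_max_image s (fun w => Nat.card (D w))
    s.toFinite ⟨_, hm₁P, fun h => hm₁ (mul_inv_eq_one.1 h).symm, m₁, rfl⟩
  -- elements fixed by `m₀ v m₀⁻¹ = w v`
  have hvv : ∀ x, v (v x) = x := fun x => by rw [← MulAut.mul_apply, hv2, MulAut.one_apply]
  have hvP : ∀ y ∈ P0, v y = y := fun y hy => hP v hv y hy
  let Cw : Subgroup M :=
    { carrier := {x | w * v x = x * w}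
      one_mem' := by simp
      mul_mem' := fun {a b} (ha : w * v a = a * w) (hb : w * v b = b * w) =>
        show w * v (a * b) = a * b * w by
          rw [map_mul, ← mul_assoc, ha, mul_assoc, hb, ← mul_assoc]
      inv_mem' := fun {a} (ha : w * v a = a * w) => show w * v a⁻¹ = a⁻¹ * w by
        calc w * v a⁻¹ = a⁻¹ * (a * w) * (v a)⁻¹ := by rw [map_inv]; group
          _ = _ := by rw [← ha]; group }
  have hCw : ∀ {x}, x ∈ Cw ↔ w * v x = x * w := fun {x} => Iff.rfl
  have hDCw : D w ≤ Cw := fun y hy =>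
    hCw.2 (by rw [hvP y hy.1, Subgroup.mem_centralizer_singleton_iff.1 hy.2])
  have hQCw : P0.map (MulAut.conj m₀).toMonoidHom ≤ Cw := by
    rintro _ ⟨y, hy, rfl⟩
    refine hCw.2 ?_
    show w * v (m₀ * y * m₀⁻¹) = m₀ * y * m₀⁻¹ * w
    rw [map_mul, map_mul, map_inv, hvP y hy, ← hm₀]
    group
  have hQ : Fusion.IsSylowIn 2 (P0.map (MulAut.conj m₀).toMonoidHom) Cw := by
    have h0 : Fusion.IsSylowIn 2 P0 ⊤ := (Fusion.isSylowIn_iff_exists le_top).2
      ⟨P.comapOfInjective (⊤ : Subgroup M).subtype Subtype.val_injective (by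
        rw [Subgroup.range_subtype]; exact le_top), rfl⟩
    exact ((h0.of_card_ge (P.2.map _) le_top
      (le_of_eq (Subgroup.card_map_of_injective (MulAut.conj m₀).injective).symm))).mono hQCw le_top
  obtain ⟨c, hc, hcD⟩ := hQ.exists_conj_le (P.2.to_inf_left : IsPGroup 2 (D w)) hDCw
  -- replace `m₀` by `m`
  set m := c⁻¹ * m₀ with hmdef
  have hci : w * v c⁻¹ = c⁻¹ * w := hCw.1 (inv_mem hc)
  have hm : m * (v m)⁻¹ = w := by
    calc m * (v m)⁻¹ = c⁻¹ * (m₀ * (v m₀)⁻¹) * (v c⁻¹)⁻¹ := by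
          rw [hmdef, map_mul]; group
      _ = (w * v c⁻¹) * (v c⁻¹)⁻¹ := by rw [hm₀, ← hci]
      _ = w := by group
  have hDQ : ∀ y ∈ D w, m⁻¹ * y * m ∈ P0 := fun y hy => by
    obtain ⟨z, hz, hze⟩ := hcD y hy
    have hze' : m₀ * z * m₀⁻¹ = c * y * c⁻¹ := hze
    have e : m⁻¹ * y * m = z := by
      calc m⁻¹ * y * m = m₀⁻¹ * (c * y * c⁻¹) * m₀ := by rw [hmdef]; group
        _ = z := by rw [← hze']; group
    rw [e]; exact hz
  have hvm : v m ≠ m := fun h => hw1 (by rw [← hm, h, mul_inv_cancel])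
  have hwD : w ∈ D w := ⟨hwP, Subgroup.mem_centralizer_singleton_iff.2 rfl⟩
  have hZD : P0 ⊓ Subgroup.centralizer (P0 : Set M) ≤ D w := fun z hz =>
    ⟨hz.1, Subgroup.mem_centralizer_singleton_iff.2
      (Subgroup.mem_centralizer_iff.1 hz.2 w hwP).symm⟩
  have hNfix : ∀ x ∈ Subgroup.normalizer (D w : Set M), v x = x := fun x hx =>
    fix_normalizer hA (fun a ha y (hy : y ∈ D w) => hP a ha y hy.1)
      (fun a ha y hy => hZ a ha y (Subgroup.centralizer_le hZD hy)) hx hv
  by_cases hDP : D w = P0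
  · refine hvm (hNfix m ?_)
    rw [hDP]
    refine inv_inv m ▸ inv_mem (Coprime.mem_normalizer_of_forall fun y hy => ?_)
    rw [inv_inv]
    exact hDQ y (hDP.ge hy)
  set Q := P0.map (MulAut.conj m).toMonoidHom
  have hDleQ : D w ≤ Q := fun y hy => ⟨m⁻¹ * y * m, hDQ y hy, by simp [mul_assoc]⟩
  have hDlt : D w < Q := lt_of_le_not_ge hDleQ fun hge => hDP (Subgroup.eq_of_le_of_card_ge
    inf_le_left (by
      rw [show Nat.card P0 = Nat.card Q from (Subgroup.card_map_of_injective (MulAut.conj m).injective).symm]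
      exact Subgroup.card_le_of_le hge))
  have hQp : IsPGroup 2 Q := P.2.map _
  have hltn : (D w).subgroupOf Q < ⊤ := by
    rw [lt_top_iff_ne_top, Ne, Subgroup.subgroupOf_eq_top]
    exact hDlt.not_ge
  obtain ⟨⟨n, hnQ⟩, hnN, hnD⟩ := SetLike.exists_of_lt
    (Group.normalizerCondition_of_isNilpotent (h := hQp.isNilpotent) _ hltn)
  have hnN' : n ∈ Subgroup.normalizer (D w : Set M) := Coprime.mem_normalizer_of_forall fun y hy =>
    (Subgroup.mem_normalizer_iff.1 hnN ⟨y, hDleQ hy⟩).1 hy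
  have hvn : v n = n := hNfix n hnN'
  -- `n` commutes with `w`
  have hnw : n * w = w * n := by
    obtain ⟨y, hy, rfl⟩ := hnQ
    have h1 : w * v (m * y * m⁻¹) = m * y * m⁻¹ * w := by
      rw [map_mul, map_mul, map_inv, hvP y hy, ← hm]; group
    rw [show (MulAut.conj m).toMonoidHom y = m * y * m⁻¹ from rfl] at hvn ⊢
    rw [hvn] at h1
    exact h1.symm
  set H := D w ⊔ Subgroup.zpowers n
  have hHQ : H ≤ Q := sup_le hDleQ (Subgroup.zpowers_le.2 hnQ)
  have hHc : H ≤ Subgroup.centralizer ({w} : Set M) :=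
    sup_le inf_le_right (Subgroup.zpowers_le.2 (Subgroup.mem_centralizer_singleton_iff.2 hnw))
  let Y : Subgroup M := v.toMonoidHom.eqLocus (MonoidHom.id M)
  have hY : ∀ {x}, x ∈ Y ↔ v x = x := fun {x} => Iff.rfl
  have hHY : H ≤ Y :=
    sup_le (fun y hy => hY.2 (hvP y hy.1)) (Subgroup.zpowers_le.2 (hY.2 hvn))
  have hPY : Fusion.IsSylowIn 2 P0 Y := by
    have h0 : Fusion.IsSylowIn 2 P0 ⊤ := (Fusion.isSylowIn_iff_exists le_top).2
      ⟨P.comapOfInjective (⊤ : Subgroup M).subtype Subtype.val_injective (by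
        rw [Subgroup.range_subtype]; exact le_top), rfl⟩
    exact h0.mono (fun y hy => hY.2 (hvP y hy)) le_top
  obtain ⟨d, hd, hdH⟩ := hPY.exists_conj_le (hQp.to_le hHQ) hHY
  have hdv : v d = d := hY.1 hd
  set w' := d * w * d⁻¹ with hw'
  have hw'P : w' ∈ P0 := hdH w (Subgroup.mem_sup_left hwD)
  have hw's : w' ∈ s := ⟨hw'P, fun h => hw1 (conj_eq_one_iff.1 h), d * m, by
    rw [map_mul, hdv, hw', ← hm]; group⟩
  have hle : H.map (MulAut.conj d).toMonoidHom ≤ D w' := by
    rintro _ ⟨y, hy, rfl⟩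
    refine ⟨hdH y hy, Subgroup.mem_centralizer_singleton_iff.2 ?_⟩
    show d * y * d⁻¹ * w' = w' * (d * y * d⁻¹)
    calc d * y * d⁻¹ * w' = d * (y * w) * d⁻¹ := by rw [hw']; group
      _ = _ := by rw [Subgroup.mem_centralizer_singleton_iff.1 (hHc hy), hw']; group
  have h1 : Nat.card H ≤ Nat.card (D w') :=
    (Subgroup.card_map_of_injective (MulAut.conj d).injective).symm.le.trans
      (Subgroup.card_le_of_le hle)
  have h2 : D w < H := lt_of_le_not_ge le_sup_left fun h =>
    hnD (h (Subgroup.mem_sup_right (Subgroup.mem_zpowers n)))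
  have h3 : Nat.card (D w) < Nat.card H := lt_of_not_ge fun h =>
    h2.ne (Subgroup.eq_of_le_of_card_ge h2.le h)
  have h4 := hmax w' hw's
  omega

/-- Every involution of `A` is trivial. -/
theorem eq_one_of_invol {A : Subgroup (MulAut M)} (hA : ⁅A, A⁆ = A)
    (hO : Cfsg.pPrimeCore 2 M = ⊥) (P : Sylow 2 M) (hP : ∀ a ∈ A, ∀ y ∈ P, a y = y)
    (hZ : ∀ a ∈ A, ∀ y ∈ Subgroup.centralizer
      (((P : Subgroup M) ⊓ Subgroup.centralizer ((P : Subgroup M) : Set M) : Subgroup M) : Set M),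
      a y = y)
    {v : MulAut M} (hv : v ∈ A) (hv2 : v * v = 1) : v = 1 := by
  haveI : Fact (Nat.Prime 2) := ⟨Nat.prime_two⟩
  haveI : NeZero 2 := ⟨two_ne_zero⟩
  let φ : Multiplicative (ZMod 2) →* MulAut M := cyc 2 v (by rw [pow_two]; exact hv2)
  have hφ : φ (Multiplicative.ofAdd 1) = v := pow_one v
  have hφP : ∀ c, ∀ y ∈ P, φ c y = y := fun c y hy => by
    show (v ^ (Multiplicative.toAdd c).val) y = y
    induction (Multiplicative.toAdd c).val with
    | zero => rfl
    | succ n ih => rw [pow_succ, MulAut.mul_apply, hP v hv y hy, ih]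
  haveI : Finite (M ⋊[φ] Multiplicative (ZMod 2)) :=
    Finite.of_equiv _ SemidirectProduct.equivProd.symm
  let Pz : Subgroup (M ⋊[φ] Multiplicative (ZMod 2)) :=
    { carrier := {g | g.left ∈ P}
      one_mem' := show (1 : M) ∈ P from one_mem _
      mul_mem' := fun {a b} (ha : a.left ∈ P) (hb : b.left ∈ P) => show (a * b).left ∈ P by
        rw [SemidirectProduct.mul_left, hφP _ _ hb]
        exact mul_mem ha hb
      inv_mem' := fun {a} (ha : a.left ∈ P) => show a⁻¹.left ∈ P by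
        rw [SemidirectProduct.inv_left, hφP _ _ (inv_mem ha)]
        exact inv_mem ha }
  have hcard : Nat.card Pz = Nat.card P * 2 := by
    rw [Nat.card_congr (⟨fun g => (⟨g.1.left, g.2⟩, g.1.right),
      fun x => ⟨⟨x.1, x.2⟩, x.1.2⟩, fun g => rfl, fun x => rfl⟩ :
      Pz ≃ P × Multiplicative (ZMod 2)), Nat.card_prod, Nat.card_congr Multiplicative.toAdd,
      Nat.card_zmod]
  have hidx : Pz.index = (P : Subgroup M).index := by
    have h1 := Pz.card_mul_index
    rw [hcard, SemidirectProduct.card, Nat.card_congr Multiplicative.toAdd, Nat.card_zmod,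
      ← (P : Subgroup M).card_mul_index] at h1
    exact Nat.eq_of_mul_eq_mul_left
      (Nat.mul_pos Nat.card_pos two_pos : 0 < Nat.card P * 2) (by rw [h1]; ring)
  have hpz : IsPGroup 2 Pz := by
    obtain ⟨n, hn⟩ := P.2.exists_card_eq
    exact IsPGroup.of_card (n := n + 1) (by rw [hcard, hn, pow_succ])
  let PS : Sylow 2 (M ⋊[φ] Multiplicative (ZMod 2)) :=
    hpz.toSylow (by rw [hidx]; exact P.not_dvd_index)
  set z : M ⋊[φ] Multiplicative (ZMod 2) := SemidirectProduct.inr (Multiplicative.ofAdd 1) with hzdef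
  have hzP : z ∈ PS := show z ∈ Pz from (show (1 : M) ∈ P from one_mem _)
  have hz2 : z ^ 2 ^ 1 = 1 := by
    have h2 : (Multiplicative.ofAdd (1 : ZMod 2)) ^ 2 = 1 := by
      rw [pow_two, ← ofAdd_add, show (1 : ZMod 2) + 1 = 0 from CharTwo.add_self_eq_zero 1, ofAdd_zero]
    rw [pow_one, hzdef, ← map_pow, h2, map_one]
  have hiso : ∀ g, g * z * g⁻¹ ∈ PS → g * z * g⁻¹ = z := by
    intro g hg
    have hgP : (g * z * g⁻¹).left ∈ P := hg
    have hl : (g * z * g⁻¹).left = g.left * (v g.left)⁻¹ := by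
      rw [SemidirectProduct.mul_left, SemidirectProduct.mul_left, SemidirectProduct.mul_right,
        SemidirectProduct.inv_left, hzdef, SemidirectProduct.left_inr, SemidirectProduct.right_inr,
        map_one, mul_one, ← MulAut.mul_apply, ← map_mul]
      rw [show g.right * Multiplicative.ofAdd (1 : ZMod 2) * g.right⁻¹ =
        Multiplicative.ofAdd 1 by rw [mul_comm g.right, mul_inv_cancel_right], hφ, map_inv]
    have h1 := fix_of_mul_inv_mem hA P hP hZ hv hv2 g.left (by rw [← hl]; exact hgP)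
    refine SemidirectProduct.ext ?_ ?_
    · rw [hl, h1, mul_inv_cancel, hzdef, SemidirectProduct.left_inr]
    · rw [SemidirectProduct.mul_right, SemidirectProduct.mul_right, SemidirectProduct.inv_right,
        mul_comm g.right, mul_inv_cancel_right]
  have hzz : z * z = 1 := by rw [pow_one, pow_two] at hz2; exact hz2
  have hz := FusionZStar.central_mod_odd 1 _ PS z hzP hz2 (fun k g hg => by
    rcases Nat.even_or_odd k with ⟨i, rfl⟩ | ⟨i, rfl⟩
    · have h : z ^ (i + i) = 1 := by rw [← two_mul, pow_mul, pow_two, hzz, one_pow]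
      rw [h]; group
    · have h : z ^ (2 * i + 1) = z := by rw [pow_succ, pow_mul, pow_two, hzz, one_pow, one_mul]
      rw [h] at hg ⊢
      exact hiso g hg)
  refine MulEquiv.ext fun x => ?_
  have h := hz (SemidirectProduct.inl x)
  have e : z * SemidirectProduct.inl x * z⁻¹ * (SemidirectProduct.inl x)⁻¹ =
      SemidirectProduct.inl (v x * x⁻¹) := by
    rw [hzdef, ← map_inv (SemidirectProduct.inr (φ := φ)), ← SemidirectProduct.inl_aut, hφ, map_mul,
      map_inv]
  rw [e] at h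
  have hle : (Cfsg.pPrimeCore 2 (M ⋊[φ] Multiplicative (ZMod 2))).comap SemidirectProduct.inl ≤
      Cfsg.pPrimeCore 2 M := by
    refine Cores.le_pPrimeCore (Subgroup.Normal.comap inferInstance _) ?_
    refine (Cores.coprime_card_pPrimeCore (G := M ⋊[φ] Multiplicative (ZMod 2)) 2).coprime_dvd_left ?_
    exact Subgroup.card_comap_dvd_of_injective _ _ SemidirectProduct.inl_injective
  have h1 := hle (Subgroup.mem_comap.2 h)
  rw [hO, Subgroup.mem_bot, mul_inv_eq_one] at h1
  exact h1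

/-- A perfect group of automorphisms of `M` fixing a Sylow 2-subgroup `P` and `C(Z(P))` pointwise is
trivial if `O_{2'}(M) = 1`. -/
theorem eq_bot_of_fix_sylow {A : Subgroup (MulAut M)} (hA : ⁅A, A⁆ = A)
    (hO : Cfsg.pPrimeCore 2 M = ⊥) (P : Sylow 2 M) (hP : ∀ a ∈ A, ∀ y ∈ P, a y = y)
    (hZ : ∀ a ∈ A, ∀ y ∈ Subgroup.centralizer
      (((P : Subgroup M) ⊓ Subgroup.centralizer ((P : Subgroup M) : Set M) : Subgroup M) : Set M),
      a y = y) : A = ⊥ := by
  haveI : Fact (Nat.Prime 2) := ⟨Nat.prime_two⟩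
  haveI : Finite (MulAut M) :=
    Finite.of_injective (fun e : MulAut M => (e : M → M)) DFunLike.coe_injective
  by_contra hne
  have hodd : Odd (Nat.card A) := by
    by_contra he
    obtain ⟨v, hv⟩ := exists_prime_orderOf_dvd_card' (G := A) 2
      (even_iff_two_dvd.1 (Nat.not_odd_iff_even.1 he))
    have hv2 : (v : MulAut M) * v = 1 := by
      have := pow_orderOf_eq_one v
      rw [hv, pow_two] at this
      exact congrArg Subtype.val this
    have h1 := eq_one_of_invol hA hO P hP hZ v.2 hv2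
    rw [show v = 1 from Subtype.ext h1, orderOf_one] at hv
    omega
  haveI : Group.IsSolvable A := OddOrderTheorem.solvable hodd
  haveI : Nontrivial A := (Subgroup.nontrivial_iff_ne_bot A).2 hne
  refine (IsSolvable.commutator_lt_top_of_nontrivial A).ne (Subgroup.map_injective A.subtype_injective ?_)
  rw [Subgroup.map_subtype_commutator, hA, ← MonoidHom.range_eq_map, Subgroup.range_subtype]

end Cfsg.Agent.HHShult.Perfect
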