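import Cfsg.Agent.Lib.HHShult.Perfect.Family
import Cfsg.Agent.Lib.Components.GenFitting

/-!
# Layers of subgroups invariant under a coprime automorphism and its fixed points (owner: helper4)

* `layer_le_layer` : if `H = [H, α]` is normalised by `C_G(α)` then `E(H) ≤ E(G)`
* `component_or_le` : a moved family permuted by `α` and `C_G(α)` consists of components of `G`
  and of subgroups of `α`-invariant components of `G`
-/

set_option autoImplicit false

namespace Cfsg.Agent.HHShult.Perfect

open Subgroup Cfsg.Agent.Components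
open scoped commutatorElement Pointwise

universe u

variable {G : Type u} [Group G]

/-- A solvable perfect subgroup is trivial. -/
theorem eq_bot_of_perfect_of_isSolvable {S : Subgroup G} (hp : ⁅S, S⁆ = S)
    (hs : Group.IsSolvable S) : S = ⊥ := by
  haveI := hs
  by_contra h
  haveI : Nontrivial S := (Subgroup.nontrivial_iff_ne_bot S).mpr h
  refine (IsSolvable.commutator_lt_top_of_nontrivial S).ne ?_
  apply Subgroup.map_injective S.subtype_injective
  rw [map_subtype_commutator, hp, ← MonoidHom.range_eq_map, range_subtype]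

variable [Finite G]

/-- A perfect subgroup of `F*(G)` lies in `E(G)`. -/
theorem perfect_le_layer {S : Subgroup G} (hp : ⁅S, S⁆ = S)
    (hle : S ≤ Cfsg.generalizedFittingSubgroup G) : S ≤ Cfsg.layer G := by
  set q := QuotientGroup.mk' (Cfsg.layer G) with hq
  have h1 : S.map q ≤ (Cfsg.fittingSubgroup G).map q := by
    refine (map_mono hle).trans (le_of_eq ?_)
    rw [Cfsg.generalizedFittingSubgroup, Subgroup.map_sup,
      (Subgroup.map_eq_bot_iff _).mpr (QuotientGroup.ker_mk' _).ge, bot_sup_eq]
  have h2 : Group.IsSolvable ((Cfsg.fittingSubgroup G).map q) := by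
    haveI : Group.IsSolvable (Cfsg.fittingSubgroup G) := fitting_isSolvable
    exact Group.isSolvable_of_surjective (q.subgroupMap_surjective _)
  have h3 : S.map q = ⊥ := eq_bot_of_perfect_of_isSolvable (by rw [← map_commutator, hp]) (by
    haveI := h2
    exact Group.isSolvable_of_isSolvable_injective (inclusion_injective h1))
  rwa [Subgroup.map_eq_bot_iff, hq, QuotientGroup.ker_mk'] at h3

omit [Finite G] in
theorem map_subgroupOf_comm (H : Subgroup G) (f : MulAut G) (e : MulAut H)
    (he : ∀ x : H, ((e x : H) : G) = f x) {L : Subgroup G} (hL : L ≤ H) :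
    (L.subgroupOf H).map e.toMonoidHom = (L.map f.toMonoidHom).subgroupOf H := by
  apply Subgroup.map_injective H.subtype_injective
  have h1 : L.map f.toMonoidHom ≤ H := by
    rintro _ ⟨x, hx, rfl⟩
    show f x ∈ H
    rw [← he ⟨x, hL hx⟩]
    exact SetLike.coe_mem _
  rw [map_subgroupOf_eq_of_le h1, map_map,
    show H.subtype.comp e.toMonoidHom = f.toMonoidHom.comp H.subtype from MonoidHom.ext he,
    ← map_map, map_subgroupOf_eq_of_le hL]

omit [Finite G] in
theorem map_not_le_fix {α : MulAut G} {L : Subgroup G} (h : ¬ L ≤ fix α) :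
    ¬ L.map α.toMonoidHom ≤ fix α := fun hle => h fun x hx =>
  α.injective (hle ⟨x, hx, rfl⟩)

section Main

variable {α : MulAut G} {r : ℕ}

/-- `E(H) ≤ E(G)` if `H = [H, α]` is normalised by `α` and `C_G(α)`. -/
theorem layer_le_layer (hc : Cop α r) {H : Subgroup G} (hH : Inv α H)
    (hfix : fix α ≤ normalizer (H : Set G)) (hcm : cm α H = H) :
    (Cfsg.layer H).map H.subtype ≤ Cfsg.layer G := by
  refine map_le_iff_le_comap.mpr (layer_le fun K₀ hK₀ => map_le_iff_le_comap.mp ?_)
  by_contra hbad
  set D : Set (Subgroup G) :=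
    {L | L ≤ H ∧ Cfsg.IsComponent (L.subgroupOf H) ∧ ¬ L ≤ Cfsg.layer G} with hD
  have hK₀D : K₀.map H.subtype ∈ D :=
    ⟨map_subtype_le _, by rwa [subgroupOf, comap_map_eq_self_of_injective H.subtype_injective],
      hbad⟩
  have hDf : IsFamily D := by
    refine ⟨fun L hL => ?_, fun L hL L' hL' hne => ?_⟩
    · rw [← map_subgroupOf_eq_of_le hL.1, isQuasisimple_map_iff H.subtype_injective]
      exact hL.2.1.2
    · have h : L.subgroupOf H ≠ L'.subgroupOf H := fun h => hne (by
        rw [← map_subgroupOf_eq_of_le hL.1, h, map_subgroupOf_eq_of_le hL'.1])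
      have h' := map_subtype_commutator_eq_bot (IsComponent.commutator_eq_bot hL.2.1 hL'.2.1 h)
      rwa [map_subgroupOf_eq_of_le hL.1, map_subgroupOf_eq_of_le hL'.1] at h'
  -- automorphisms of `G` normalising `H` permute `D`
  have hperm : ∀ (f : MulAut G) (e : MulAut H), (∀ x : H, ((e x : H) : G) = f x) → ∀ L ∈ D,
      L.map f.toMonoidHom ∈ D := by
    intro f e he L hL
    refine ⟨?_, ?_, fun h => hL.2.2 fun x hx => ?_⟩
    · rintro _ ⟨x, hx, rfl⟩
      show f x ∈ H
      rw [← he ⟨x, hL.1 hx⟩]
      exact SetLike.coe_mem _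
    · rw [← map_subgroupOf_comm H f e he hL.1]
      exact IsComponent.map_equiv e hL.2.1
    · have h1 : f x ∈ Cfsg.layer G := h ⟨x, hx, rfl⟩
      rw [← layer_map_equiv f] at h1
      obtain ⟨y, hy, hyx⟩ := h1
      rwa [← f.injective (show f y = f x from hyx)]
  have hDα : ∀ L ∈ D, L.map α.toMonoidHom ∈ D :=
    hperm α (restrictTo α H hH) (fun x => coe_restrictTo α H hH x)
  set M := Cfsg.generalizedFittingSubgroup G
  have hMn : ∀ S : Subgroup G, S ≤ normalizer (M : Set G) := fun S =>
    (normalizer_eq_top (H := M)).ge.trans' le_top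
  have hMi : Inv α M := fun x hx =>
    characteristic_iff_map_le.mp inferInstance α ⟨x, hx, rfl⟩
  set N := M ⊓ H with hN
  haveI hNn : (N.subgroupOf H).Normal := normal_subgroupOf_of_le_normalizer
    ((le_inf (hMn H) le_normalizer).trans inf_normalizer_le_normalizer_inf)
  have hDC : ∀ L ∈ D, L ≤ centralizer ((M ⊓ fix α : Subgroup G) : Set G) := by
    intro L hL
    have hp := isPerfect_bracket (hDf.qs L hL)
    have h0 : ⁅L, N⁆ = ⊥ := by
      rcases IsComponent.le_or_commutes hL.2.1 hNn.isSubnormal with h | h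
      · refine absurd (perfect_le_layer hp ?_) hL.2.2
        have h' := map_mono (f := H.subtype) h
        rw [map_subgroupOf_eq_of_le hL.1, map_subgroupOf_eq_of_le inf_le_right] at h'
        exact h'.trans inf_le_left
      · have h' := map_subtype_commutator_eq_bot h
        rwa [map_subgroupOf_eq_of_le hL.1, map_subgroupOf_eq_of_le inf_le_right] at h'
    refine commutator_eq_bot_iff_le_centralizer.mp
      (commutator_eq_bot_of_perfect_of_le hp (Z := N) (le_inf ?_ ?_) ?_)
    · exact (commutator_mono le_rfl inf_le_left).trans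
        (le_normalizer_iff_commutator_le_right.mp (hMn L))
    · refine (commutator_mono hL.1 inf_le_right).trans ?_
      rw [commutator_comm]
      exact le_normalizer_iff_commutator_le_right.mp hfix
    · rw [commutator_comm]; exact h0
  -- every member of `D` is fixed by `α`
  have hDfix : ∀ L ∈ D, L ≤ fix α := by
    by_contra h
    push Not at h
    obtain ⟨L, hL, hne⟩ := h
    set T : Set (Subgroup G) := {L | L ∈ D ∧ ¬ L ≤ fix α}
    have hT : IsFamily T := hDf.subset fun L h => h.1
    have hle := (hT.le_centralizer hc (fun L h => ⟨hDα L h.1, map_not_le_fix h.2⟩)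
      (fun L h => h.2) hMi (fun L _ => hMn L) (fun L h => hDC L h.1)).trans
      centralizer_genFitting_le_fitting
    have hbot : sSup T = ⊥ := eq_bot_of_perfect_of_isSolvable hT.perfect (by
      haveI : Group.IsSolvable (Cfsg.fittingSubgroup G) := fitting_isSolvable
      exact Group.isSolvable_of_isSolvable_injective (inclusion_injective hle))
    have hLT : L ≤ ⊥ := hbot ▸ le_sSup (show L ∈ T from ⟨hL, hne⟩)
    exact hne (hLT.trans bot_le)
  have hD1 : sSup D ≤ fix α := sSup_le hDfix
  have hD1n : ∀ h ∈ H, ∀ x ∈ sSup D, h * x * h⁻¹ ∈ sSup D := by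
    intro h hh x hx
    have : sSup D ≤ (sSup D).comap (MulAut.conj h).toMonoidHom := sSup_le fun L hL =>
      map_le_iff_le_comap.mp (le_sSup (hperm (MulAut.conj h) (MulAut.conj (⟨h, hh⟩ : H))
        (fun y => rfl) L hL))
    exact this hx
  have hHC : H ≤ centralizer ((sSup D : Subgroup G) : Set G) := by
    rw [← hcm]
    refine cm_le_of_forall fun h hh => fun x hx => ?_
    have h1 : α (h * x * h⁻¹) = h * x * h⁻¹ := hD1 (hD1n h hh x hx)
    rw [map_mul, map_mul, map_inv, show α x = x from hD1 hx] at h1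
    calc x * (h⁻¹ * α h) = h⁻¹ * (h * x * h⁻¹) * α h := by group
      _ = h⁻¹ * (α h * x * (α h)⁻¹) * α h := by rw [h1]
      _ = h⁻¹ * α h * x := by group
  exact not_le_centralizer_self (hDf.qs _ hK₀D) ((hK₀D.1.trans hHC).trans
    (centralizer_le (SetLike.coe_subset_coe.mpr (le_sSup hK₀D))))

omit [Finite G] in
theorem inv_of_inv_pow (hc : Cop α r) {S : Subgroup G} {n : ℕ} (hn : ¬ r ∣ n)
    (h : Inv (α ^ n) S) : Inv α S := by
  obtain ⟨m, hm⟩ := exists_pow_eq_self_of_coprime (x := α) (n := n)
    (((hc.prime.coprime_iff_not_dvd.mpr hn).symm).coprime_dvd_right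
      (orderOf_dvd_of_pow_eq_one hc.pow))
  rw [← hm]
  clear hm
  induction m with
  | zero => exact fun x hx => hx
  | succ m ih => exact fun x hx => by rw [pow_succ, MulAut.mul_apply]; exact ih _ (h x hx)

omit [Finite G] in
/-- Commutators of `A ⊔ V` and `B ⊔ V` when `A`, `B` commute and normalise `V`. -/
theorem commutator_sup_le {A B V : Subgroup G} (hA : A ≤ normalizer (V : Set G))
    (hB : B ≤ normalizer (V : Set G)) (h : ⁅A, B⁆ = ⊥) : ⁅A ⊔ V, B ⊔ V⁆ ≤ V := by
  rw [commutator_le]
  intro x hx y hy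
  obtain ⟨a, ha, v, hv, rfl⟩ := Set.mem_mul.mp
    (by rwa [← coe_mul_of_left_le_normalizer_right A V hA] : x ∈ (A : Set G) * (V : Set G))
  obtain ⟨b, hb, w, hw, rfl⟩ := Set.mem_mul.mp
    (by rwa [← coe_mul_of_left_le_normalizer_right B V hB] : y ∈ (B : Set G) * (V : Set G))
  have h1 := commutator_mem_commutator ha hb
  rw [h, mem_bot] at h1
  have e : ⁅a * v, b * w⁆ =
      (a * v * a⁻¹) * ⁅a, b⁆ * (b * ((a * (w * v⁻¹) * a⁻¹) * w⁻¹) * b⁻¹) := by
    simp only [commutatorElement_def]; group
  rw [e, h1, mul_one]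
  exact V.mul_mem ((mem_normalizer_iff.mp (hA ha) v).mp hv) ((mem_normalizer_iff.mp (hB hb) _).mp
    (V.mul_mem ((mem_normalizer_iff.mp (hA ha) _).mp (V.mul_mem hw (V.inv_mem hv))) (V.inv_mem hw)))

theorem le_normalizer_sSup {A : Subgroup G} {S : Set (Subgroup G)}
    (h : ∀ a ∈ A, ∀ L ∈ S, L.map (MulAut.conj a).toMonoidHom ≤ sSup S) :
    A ≤ normalizer ((sSup S : Subgroup G) : Set G) := fun a ha =>
  Coprime.mem_normalizer_of_forall fun y hy => by
    have : sSup S ≤ (sSup S).comap (MulAut.conj a).toMonoidHom := sSup_le fun L hL =>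
      map_le_iff_le_comap.mp (h a ha L hL)
    exact this hy

/-- The join of the components other than `J`. -/
def others (J : Subgroup G) : Subgroup G := sSup {A | Cfsg.IsComponent A ∧ A ≠ J}

variable {J : Subgroup G}

theorem le_centralizer_others (hJ : Cfsg.IsComponent J) :
    J ≤ centralizer (others J : Set G) :=
  IsComponent.le_centralizer_sSup hJ (fun _ h => h.1) fun h => h.2 rfl

theorem layer_le_normalizer_others : Cfsg.layer G ≤ normalizer (others J : Set G) :=
  le_normalizer_sSup fun a ha L hL => by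
    refine le_trans ?_ (le_sSup hL)
    rintro _ ⟨x, hx, rfl⟩
    exact (mem_normalizer_iff.mp (IsComponent.layer_le_normalizer hL.1 ha) x).mp hx

theorem exists_mul_others (hJ : Cfsg.IsComponent J) {x : G} (hx : x ∈ Cfsg.layer G) :
    ∃ j ∈ J, ∃ u ∈ others J, x = j * u := by
  have hle : Cfsg.layer G ≤ J ⊔ others J := layer_le fun A hA => by
    by_cases h : A = J
    · exact h.le.trans le_sup_left
    · exact (le_sSup (show A ∈ {A | Cfsg.IsComponent A ∧ A ≠ J} from ⟨hA, h⟩)).trans le_sup_right
  obtain ⟨j, hj, u, hu, h⟩ := Set.mem_mul.mp (by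
    rw [← coe_mul_of_left_le_normalizer_right J (others J)
      ((IsComponent.le_layer hJ).trans layer_le_normalizer_others)]
    exact hle hx : x ∈ (J : Set G) * (others J : Set G))
  exact ⟨j, hj, u, hu, h.symm⟩

omit [Finite G] in
theorem map_pow_isComponent (hJ : Cfsg.IsComponent J) (n : ℕ) :
    Cfsg.IsComponent (J.map (α ^ n).toMonoidHom) :=
  IsComponent.map_equiv (α ^ n) hJ

/-- For a moved component `J`, each `j ∈ J` is the `J`-part of a fixed element. -/
theorem exists_fix_part (hc : Cop α r) (hJ : Cfsg.IsComponent J) (hJi : ¬ Inv α J) {j : G}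
    (hj : j ∈ J) : ∃ u ∈ others J, j * u ∈ fix α := by
  let f : ℕ → G := fun n => Nat.rec 1 (fun i y => y * (α ^ i) j) n
  have hf : ∀ n, f (n + 1) = f n * (α ^ n) j := fun n => rfl
  have hf2 : ∀ n, f (n + 1) = j * α (f n) := by
    intro n
    induction n with
    | zero => simp [f]
    | succ n ih => rw [hf (n + 1), hf n, map_mul, ← mul_assoc, ← ih, pow_succ', MulAut.mul_apply]
  have hmem : ∀ n, n < r → α (f n) ∈ others J := by
    intro n
    induction n with
    | zero => intro _; simpa [f] using one_mem _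
    | succ n ih =>
      intro hn
      rw [hf, map_mul, ← MulAut.mul_apply, ← pow_succ']
      refine mul_mem (ih (by omega)) ?_
      refine (le_sSup (show J.map (α ^ (n + 1)).toMonoidHom ∈
        {A | Cfsg.IsComponent A ∧ A ≠ J} from ⟨map_pow_isComponent hJ _, fun he => ?_⟩))
        ⟨j, hj, rfl⟩
      exact hJi (inv_of_inv_pow hc (fun hd => absurd (Nat.le_of_dvd (by omega) hd) (by omega))
        fun x hx => he.le ⟨x, hx, rfl⟩)
  obtain ⟨m, hm⟩ : ∃ m, r = m + 1 := ⟨r - 1, (Nat.sub_add_cancel hc.prime.one_le).symm⟩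
  refine ⟨α (f m), hmem m (by omega), ?_⟩
  rw [← hf2, mem_fix]
  conv_lhs => rw [hf, map_mul, ← MulAut.mul_apply, ← pow_succ', ← hm, hc.pow, MulAut.one_apply]
  rw [hf2]
  exact le_centralizer_others hJ hj _ (hmem m (by omega))

variable {T : Set (Subgroup G)}

/-- An invariant normal subgroup of the layer contains or is centralised by each member. -/
theorem IsFamily.le_or_commutes (hT : IsFamily T) (hc : Cop α r)
    (hTα : ∀ L ∈ T, L.map α.toMonoidHom ∈ T) (hmov : ∀ L ∈ T, ¬ L ≤ fix α)
    (hfix : fix α ≤ normalizer ((sSup T : Subgroup G) : Set G)) (hE : sSup T ≤ Cfsg.layer G)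
    {O : Subgroup G} (hOi : Inv α O) (hOn : Cfsg.layer G ≤ normalizer (O : Set G))
    {L : Subgroup G} (hL : L ∈ T) : L ≤ O ∨ L ≤ centralizer (O : Set G) := by
  by_cases hLO : L ≤ O
  · exact Or.inl hLO
  set T' : Set (Subgroup G) := {L | L ∈ T ∧ ¬ L ≤ O}
  have hT' : IsFamily T' := hT.subset fun L h => h.1
  have hn : ∀ L ∈ T, L ≤ normalizer (O : Set G) := fun L h => ((le_sSup h).trans hE).trans hOn
  refine Or.inr ((le_sSup (show L ∈ T' from ⟨hL, hLO⟩)).trans
    (hT'.le_centralizer hc (fun L h => ⟨hTα L h.1, fun hle => h.2 fun x hx =>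
      hc.inv_symm_mem hOi (hle ⟨x, hx, rfl⟩)⟩) (fun L h => hmov L h.1) hOi
      (fun L h => hn L h.1) fun A hA => ?_))
  have h0 : ⁅A, sSup T ⊓ O⁆ = ⊥ :=
    (le_or_commutes_of_le_normalizer (hT.qs A hA.1)
      ((le_inf ((le_sSup hA.1).trans le_normalizer) (hn A hA.1)).trans
        inf_normalizer_le_normalizer_inf)
      (inf_le_left.trans (hT.sSup_le_normalizer hA.1))).resolve_left
      fun h => hA.2 (h.trans inf_le_right)
  refine commutator_eq_bot_iff_le_centralizer.mp
    (commutator_eq_bot_of_perfect_of_le (isPerfect_bracket (hT.qs A hA.1)) (Z := sSup T ⊓ O)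
      (le_inf ?_ ?_) (by rw [commutator_comm]; exact h0))
  · refine (commutator_mono (le_sSup hA.1) inf_le_right).trans ?_
    rw [commutator_comm]
    exact le_normalizer_iff_commutator_le_right.mp hfix
  · exact (commutator_mono le_rfl inf_le_left).trans
      (le_normalizer_iff_commutator_le_right.mp (hn A hA.1))

/-- The part of `L` in `J`. -/
theorem le_sup_others (hT : IsFamily T) (hc : Cop α r)
    (hTfix : ∀ c ∈ fix α, ∀ L ∈ T, L.map (MulAut.conj c).toMonoidHom ∈ T)
    (hE : sSup T ≤ Cfsg.layer G) (hJ : Cfsg.IsComponent J) (hJi : ¬ Inv α J)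
    {L : Subgroup G} (hL : L ∈ T) (hsup : ¬ L ≤ centralizer (J : Set G)) :
    J ≤ L ⊔ others J := by
  set P : Subgroup G → Subgroup G := fun A => (A ⊔ others J) ⊓ J with hP
  have hnoth : ∀ A ∈ T, A ≤ normalizer (others J : Set G) := fun A hA =>
    ((le_sSup hA).trans hE).trans layer_le_normalizer_others
  have hno : others J ≤ centralizer (J : Set G) := le_centralizer_iff.mp (le_centralizer_others hJ)
  have hnc : ¬ P L ≤ centralizer (J : Set G) := fun h => hsup fun k hk => by
    obtain ⟨j, hj, u, hu, rfl⟩ := exists_mul_others hJ (hE (le_sSup hL hk))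
    refine mul_mem (h ⟨?_, hj⟩) (hno hu)
    have h' := (L ⊔ others J).mul_mem (mem_sup_left hk)
      ((L ⊔ others J).inv_mem (mem_sup_right hu))
    rwa [mul_inv_cancel_right] at h'
  set PP : Subgroup G := sSup (P '' T) with hPP
  have hPPJ : PP ≤ J := sSup_le (by rintro _ ⟨A, -, rfl⟩; exact inf_le_right)
  have hJn : J ≤ normalizer (PP : Set G) := by
    refine le_normalizer_sSup ?_
    rintro j hj _ ⟨A, hA, rfl⟩
    obtain ⟨u, hu, hfx⟩ := exists_fix_part hc hJ hJi hj
    refine le_trans ?_ (le_sSup ⟨_, hTfix _ hfx A hA, rfl⟩)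
    rintro _ ⟨y, ⟨hy1, hy2⟩, rfl⟩
    show j * y * j⁻¹ ∈ _
    refine ⟨?_, J.mul_mem (J.mul_mem hj hy2) (J.inv_mem hj)⟩
    have h2 : j * y * j⁻¹ = MulAut.conj (j * u) y := by
      rw [MulAut.conj_apply]
      calc j * y * j⁻¹ = j * (y * u) * u⁻¹ * j⁻¹ := by group
        _ = j * (u * y) * u⁻¹ * j⁻¹ := by rw [(hno hu y hy2)]
        _ = _ := by group
    have h3 := mem_map_of_mem (MulAut.conj (j * u)).toMonoidHom hy1
    rw [Subgroup.map_sup] at h3
    rw [h2]
    refine (sup_le_sup_left ?_ _ : _ ≤ A.map (MulAut.conj (j * u)).toMonoidHom ⊔ others J) h3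
    rintro _ ⟨z, hz, rfl⟩
    have hju : j * u ∈ Cfsg.layer G := mul_mem (IsComponent.le_layer hJ hj)
      ((sSup_le fun A hA => IsComponent.le_layer hA.1 : others J ≤ Cfsg.layer G) hu)
    exact (mem_normalizer_iff.mp (layer_le_normalizer_others hju) z).mp hz
  have hJPP : J ≤ PP := (le_or_commutes_of_le_normalizer hJ.2 hJn
    (hPPJ.trans le_normalizer)).resolve_right fun h => hnc
      ((le_sSup ⟨L, hL, rfl⟩ : P L ≤ PP).trans
        (commutator_eq_bot_iff_le_centralizer.mp (by rw [commutator_comm]; exact h)))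
  have hJnP : J ≤ normalizer (P L : Set G) := hJPP.trans (sSup_le (by
    rintro _ ⟨A, hA, rfl⟩
    by_cases h : A = L
    · exact h ▸ le_normalizer
    · rw [le_normalizer_iff_commutator_le_right]
      refine le_inf (le_trans ?_ (le_sup_right : others J ≤ L ⊔ others J))
        ((commutator_mono inf_le_right inf_le_right).trans (commutator_le_self J))
      exact (commutator_mono inf_le_left inf_le_left).trans
        (commutator_sup_le (hnoth A hA) (hnoth L hL) (hT.comm A hA L hL h))))
  exact ((le_or_commutes_of_le_normalizer hJ.2 hJnP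
    (inf_le_right.trans le_normalizer)).resolve_right fun h => hnc
      (commutator_eq_bot_iff_le_centralizer.mp (by rw [commutator_comm]; exact h))).trans
        inf_le_left

/-- At most one member is not centralised by a moved component. -/
theorem eq_of_not_centralizes (hT : IsFamily T) (hc : Cop α r)
    (hTfix : ∀ c ∈ fix α, ∀ L ∈ T, L.map (MulAut.conj c).toMonoidHom ∈ T)
    (hE : sSup T ≤ Cfsg.layer G) (hJ : Cfsg.IsComponent J) (hJi : ¬ Inv α J)
    {L L' : Subgroup G} (hL : L ∈ T) (hsup : ¬ L ≤ centralizer (J : Set G))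
    (hL' : L' ∈ T) (hsup' : ¬ L' ≤ centralizer (J : Set G)) : L = L' := by
  by_contra hne
  have hnoth : ∀ A ∈ T, A ≤ normalizer (others J : Set G) := fun A hA =>
    ((le_sSup hA).trans hE).trans layer_le_normalizer_others
  have h : J ≤ others J := calc
    J = ⁅J, J⁆ := (IsComponent.perfect hJ).symm
    _ ≤ ⁅L ⊔ others J, L' ⊔ others J⁆ := commutator_mono
        (le_sup_others hT hc hTfix hE hJ hJi hL hsup)
        (le_sup_others hT hc hTfix hE hJ hJi hL' hsup')
    _ ≤ others J := commutator_sup_le (hnoth L hL) (hnoth L' hL') (hT.comm L hL L' hL' hne)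
  exact (IsComponent.mem_of_le_sSup hJ (fun _ h => h.1) h).2 rfl

/-- A moved family permuted by `α` and `C_G(α)`. -/
theorem component_or_le (hT : IsFamily T) (hc : Cop α r)
    (hTα : ∀ L ∈ T, L.map α.toMonoidHom ∈ T)
    (hTfix : ∀ c ∈ fix α, ∀ L ∈ T, L.map (MulAut.conj c).toMonoidHom ∈ T)
    (hmov : ∀ L ∈ T, ¬ L ≤ fix α) {K : Subgroup G} (hK : K ∈ T) :
    Cfsg.IsComponent K ∨
      ∃ J : Subgroup G, Cfsg.IsComponent J ∧ J.map α.toMonoidHom = J ∧ K ≤ J := by
  have hnorm : fix α ≤ normalizer ((sSup T : Subgroup G) : Set G) :=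
    le_normalizer_sSup fun c hc' L hL => le_sSup (hTfix c hc' L hL)
  have hE : sSup T ≤ Cfsg.layer G := sSup_le fun L hL => by
    have hcomp : Cfsg.IsComponent (L.subgroupOf (sSup T)) := by
      refine ⟨(normal_subgroupOf_of_le_normalizer (hT.sSup_le_normalizer hL)).isSubnormal, ?_⟩
      rw [← isQuasisimple_map_iff (sSup T).subtype_injective,
        map_subgroupOf_eq_of_le (le_sSup hL)]
      exact hT.qs L hL
    have h := map_mono (f := (sSup T).subtype) (IsComponent.le_layer hcomp)
    rw [map_subgroupOf_eq_of_le (le_sSup hL)] at h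
    exact h.trans (layer_le_layer hc (inv_sSup hTα) hnorm (hT.cm_sSup hTα hmov))
  have hKE : K ≤ Cfsg.layer G := (le_sSup hK).trans hE
  obtain ⟨J, hJ, hsup⟩ : ∃ J : Subgroup G, Cfsg.IsComponent J ∧ ¬ K ≤ centralizer (J : Set G) := by
    by_contra h
    push Not at h
    refine not_le_centralizer_self (hT.qs K hK) ?_
    have : K ≤ centralizer (Cfsg.layer G : Set G) := le_centralizer_iff.mp
      (layer_le fun A hA => (le_centralizer_iff (H := K) (K := A)).mp (h A hA))
    exact this.trans (centralizer_le (SetLike.coe_subset_coe.mpr hKE))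
  by_cases hJi : Inv α J
  · exact Or.inr ⟨J, hJ, hc.map_eq hJi,
      (hT.le_or_commutes hc hTα hmov hnorm hE hJi (IsComponent.layer_le_normalizer hJ)
        hK).resolve_right hsup⟩
  left
  -- the fixed elements with given `J`-part normalise `K`
  have hcK : ∀ j ∈ J, ∀ u ∈ others J, j * u ∈ fix α → ∀ k ∈ K,
      (j * u) * k * (j * u)⁻¹ ∈ K := by
    intro j hj u hu hfx k hk
    have hju : j * u ∈ Cfsg.layer G := mul_mem (IsComponent.le_layer hJ hj)
      ((sSup_le fun A hA => IsComponent.le_layer hA.1 : others J ≤ Cfsg.layer G) hu)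
    have he : K.map (MulAut.conj (j * u)).toMonoidHom = K := by
      refine eq_of_not_centralizes hT hc hTfix hE hJ hJi (hTfix _ hfx K hK) (fun h => hsup ?_)
        hK hsup
      intro a ha y hy
      have h1 := h ⟨a, ha, rfl⟩ (j * u * y * (j * u)⁻¹)
        ((mem_normalizer_iff.mp (IsComponent.layer_le_normalizer hJ hju) y).mp hy)
      refine (MulAut.conj (j * u)).injective ?_
      rw [map_mul (MulAut.conj (j * u)) y a, map_mul (MulAut.conj (j * u)) a y]
      exact h1
    exact he.le ⟨k, hk, rfl⟩
  have hno : others J ≤ centralizer (J : Set G) := le_centralizer_iff.mp (le_centralizer_others hJ)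
  by_cases hone : K ≤ centralizer (others J : Set G)
  · -- `K ≤ J`, normalised by `J`
    have hKJ : K ≤ J := by
      rw [← isPerfect_bracket (hT.qs K hK), commutator_le]
      intro k hk k' hk'
      obtain ⟨j, hj, u, hu, rfl⟩ := exists_mul_others hJ (hKE hk)
      have hu2 : u ∈ centralizer (others J : Set G) := by
        have h := (centralizer (others J : Set G)).mul_mem
          ((centralizer (others J : Set G)).inv_mem (le_centralizer_others hJ hj)) (hone hk)
        rwa [inv_mul_cancel_left] at h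
      obtain ⟨j', hj', u', hu', rfl⟩ := exists_mul_others hJ (hKE hk')
      have h1 : Commute u (j' * u') :=
        (show Commute u j' from (hno hu j' hj').symm).mul_right
          (show Commute u u' from (hu2 u' hu').symm)
      have e : ⁅j * u, j' * u'⁆ = j * ((j' * u') * j⁻¹ * (j' * u')⁻¹) := by
        calc ⁅j * u, j' * u'⁆ = j * (u * (j' * u') * u⁻¹) * j⁻¹ * (j' * u')⁻¹ := by
              rw [commutatorElement_def]; group
          _ = j * (j' * u') * j⁻¹ * (j' * u')⁻¹ := by rw [h1.eq, mul_inv_cancel_right]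
          _ = _ := by group
      rw [e]
      exact J.mul_mem hj ((mem_normalizer_iff.mp
        (IsComponent.layer_le_normalizer hJ (hKE hk')) _).mp (J.inv_mem hj))
    have hJK : J ≤ normalizer (K : Set G) := fun j hj =>
      Coprime.mem_normalizer_of_forall fun k hk => by
        obtain ⟨u, hu, hfx⟩ := exists_fix_part hc hJ hJi hj
        have h := hcK j hj u hu hfx k hk
        have e : j * u * k * (j * u)⁻¹ = j * k * j⁻¹ := by
          calc j * u * k * (j * u)⁻¹ = j * (u * k) * u⁻¹ * j⁻¹ := by group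
            _ = j * (k * u) * u⁻¹ * j⁻¹ := by rw [hno hu k (hKJ hk)]
            _ = _ := by group
        rwa [e] at h
    rcases le_or_commutes_of_le_normalizer hJ.2 hJK (hKJ.trans le_normalizer) with h | h
    · rwa [le_antisymm hKJ h]
    · exact absurd (commutator_eq_bot_iff_le_centralizer.mp (by rw [commutator_comm]; exact h))
        hsup
  -- `K` is not centralised by a second component, necessarily in the orbit of `J`
  exfalso
  obtain ⟨J', hJ', hJne, hsup'⟩ : ∃ J' : Subgroup G, Cfsg.IsComponent J' ∧ J' ≠ J ∧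
      ¬ K ≤ centralizer (J' : Set G) := by
    by_contra h
    push Not at h
    exact hone (le_centralizer_iff.mp (sSup_le fun A hA =>
      (le_centralizer_iff (H := K) (K := A)).mp (h A hA.1 hA.2)))
  set O : Subgroup G := sSup (Set.range fun n : ℕ => J.map (α ^ n).toMonoidHom) with hO
  have hKO : K ≤ O := by
    refine (hT.le_or_commutes hc hTα hmov hnorm hE (inv_sSup ?_) ?_ hK).resolve_right fun h =>
      hsup (h.trans (centralizer_le (SetLike.coe_subset_coe.mpr
        (le_sSup (show J ∈ Set.range fun n : ℕ => J.map (α ^ n).toMonoidHom from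
          ⟨0, Subgroup.map_id J⟩)))))
    · rintro _ ⟨n, rfl⟩
      refine ⟨n + 1, ?_⟩
      show J.map (α ^ (n + 1)).toMonoidHom = (J.map (α ^ n).toMonoidHom).map α.toMonoidHom
      rw [map_map, pow_succ']
      rfl
    · refine le_normalizer_sSup ?_
      rintro a ha _ ⟨n, rfl⟩
      refine le_trans ?_ (le_sSup ⟨n, rfl⟩)
      rintro _ ⟨x, hx, rfl⟩
      exact (mem_normalizer_iff.mp
        (IsComponent.layer_le_normalizer (map_pow_isComponent hJ n) ha) x).mp hx
  obtain ⟨n, rfl⟩ : ∃ n : ℕ, J.map (α ^ n).toMonoidHom = J' := by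
    by_contra h
    push Not at h
    refine hsup' (hKO.trans (sSup_le ?_))
    rintro _ ⟨n, rfl⟩
    exact commutator_eq_bot_iff_le_centralizer.mp
      (IsComponent.commutator_eq_bot (map_pow_isComponent hJ n) hJ' (h n))
  have hn : ¬ r ∣ n := by
    rintro ⟨m, rfl⟩
    exact hJne (by rw [pow_mul, hc.pow, one_pow]; exact Subgroup.map_id J)
  have hJ'i : ¬ Inv α (J.map (α ^ n).toMonoidHom) := fun h => hJi fun x hx => by
    obtain ⟨y, hy, hyx⟩ := h _ ⟨x, hx, rfl⟩
    have e : (α ^ n) y = (α ^ n) (α x) := by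
      rw [← MulAut.mul_apply, ← pow_succ, pow_succ', MulAut.mul_apply]
      exact hyx
    rwa [← (α ^ n).injective e]
  -- so `α` normalises `K`
  have hTn : ∀ m : ℕ, K.map (α ^ m).toMonoidHom ∈ T := by
    intro m
    induction m with
    | zero => rw [pow_zero]; rw [show ((1 : MulAut G).toMonoidHom) = MonoidHom.id G from rfl,
        Subgroup.map_id]; exact hK
    | succ m ih =>
      have h := hTα _ ih
      rw [map_map] at h
      rw [pow_succ']
      exact h
  have hKi : Inv α K := by
    refine inv_of_inv_pow hc hn fun x hx => ?_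
    have he : K.map (α ^ n).toMonoidHom = K := by
      refine eq_of_not_centralizes hT hc hTfix hE hJ' hJ'i (hTn n) (fun h => hsup ?_) hK hsup'
      intro a ha y hy
      refine (α ^ n).injective ?_
      rw [map_mul, map_mul]
      exact h ⟨a, ha, rfl⟩ _ ⟨y, hy, rfl⟩
    exact he.le ⟨x, hx, rfl⟩
  -- and then centralises it
  have hKc : cm α K ≤ centralizer (K : Set G) := cm_le_of_forall fun k hk => by
    obtain ⟨j, hj, u, hu, hku⟩ := exists_mul_others hJ (hKE hk)
    obtain ⟨u', hu', hfx⟩ := exists_fix_part hc hJ hJi hj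
    set c := j * u' with hc'
    have hv : c⁻¹ * k ∈ others J := by
      have e : c⁻¹ * k = u'⁻¹ * u := by rw [hku, hc']; group
      rw [e]
      exact mul_mem (inv_mem hu') hu
    have hvN : c⁻¹ * k ∈ normalizer (K : Set G) := mul_mem
      (inv_mem (Coprime.mem_normalizer_of_forall (hcK j hj u' hu' hfx))) (le_normalizer hk)
    have h0 : ⁅K, zpowers (c⁻¹ * k)⁆ = ⊥ := by
      refine commutator_eq_bot_of_perfect_of_le (isPerfect_bracket (hT.qs K hK))
        (Z := K ⊓ others J) (le_inf ?_ ?_) ?_
      · rw [commutator_comm]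
        exact le_normalizer_iff_commutator_le_right.mp (zpowers_le.mpr hvN)
      · exact (commutator_mono le_rfl (zpowers_le.mpr hv)).trans
          (le_normalizer_iff_commutator_le_right.mp (hKE.trans layer_le_normalizer_others))
      · rw [commutator_comm]
        exact (le_or_commutes_of_le_normalizer (hT.qs K hK)
          ((le_inf le_normalizer (hKE.trans layer_le_normalizer_others)).trans
            inf_normalizer_le_normalizer_inf) (inf_le_left.trans le_normalizer)).resolve_left
            fun h => hsup ((h.trans inf_le_right).trans hno)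
    have hcomm : ∀ y ∈ K, Commute y (c⁻¹ * k) := fun y hy => by
      have h := commutator_mem_commutator hy (mem_zpowers (c⁻¹ * k))
      rw [h0, mem_bot] at h
      exact commutatorElement_eq_one_iff_commute.mp h
    intro y hy
    obtain ⟨z, hz, rfl⟩ : ∃ z ∈ K, α z = y :=
      ⟨α.symm y, hc.inv_symm_mem hKi (by simpa using hy), by simp⟩
    have h2 : Commute (α z) (c⁻¹ * α k) := by
      have := (hcomm z hz).map α.toMonoidHom
      simpa [show α c = c from hfx] using this
    have h3 := (hcomm _ hy).inv_right.mul_right h2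
    rw [show (c⁻¹ * k)⁻¹ * (c⁻¹ * α k) = k⁻¹ * α k by group] at h3
    exact h3.eq
  refine not_le_centralizer_self (hT.qs K hK) (le_trans ?_ hKc)
  have hsing : IsFamily ({K} : Set (Subgroup G)) := hT.subset (by simpa using hK)
  have h := hsing.le_cm (α := α) (by simpa using hc.map_eq hKi) (L := K) rfl (hmov K hK)
  rwa [sSup_singleton] at h

end Main

end Cfsg.Agent.HHShult.Perfect
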