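import Cfsg.Agent.Lib.HHShult.Act

/-!
# Restricting automorphisms (owner: helper4)

* `restrictTo`, `restrictHom` : restriction to a subgroup mapped into itself
* `quotTo`, `quotHom` : induced automorphisms of a quotient
* `map_cm` : images of `[H, α]`
-/

set_option autoImplicit false

namespace Cfsg.Agent.HHShult.Perfect

open scoped commutatorElement

universe u v

variable {M : Type u} [Group M] [Finite M]

omit [Finite M] in
theorem map_cm {N : Type v} [Group N] (f : M →* N) {α : MulAut M} {β : MulAut N}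
    (h : ∀ x, f (α x) = β (f x)) (H : Subgroup M) : (cm α H).map f = cm β (H.map f) := by
  rw [cm, MonoidHom.map_closure, cm]
  congr 1
  ext y
  constructor
  · rintro ⟨_, ⟨x, hx, rfl⟩, rfl⟩
    exact ⟨f x, ⟨x, hx, rfl⟩, by simp [h]⟩
  · rintro ⟨_, ⟨x, hx, rfl⟩, rfl⟩
    exact ⟨_, ⟨x, hx, rfl⟩, by simp [h]⟩

/-- The restriction to a subgroup mapped into itself. -/
noncomputable def restrictTo (f : MulAut M) (N : Subgroup M) (h : ∀ x ∈ N, f x ∈ N) : MulAut N :=
  MulEquiv.ofBijective
    ({ toFun := fun x => ⟨f x, h x x.2⟩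
       map_one' := Subtype.ext (map_one f)
       map_mul' := fun x y => Subtype.ext (map_mul f (x : M) y) } : N →* N)
    (Finite.injective_iff_bijective.1 fun _ _ e =>
      Subtype.ext (f.injective (congrArg Subtype.val e)))

theorem coe_restrictTo (f : MulAut M) (N : Subgroup M) (h : ∀ x ∈ N, f x ∈ N) (x : N) :
    ((restrictTo f N h x : N) : M) = f x := rfl

theorem restrictTo_pow (f : MulAut M) (N : Subgroup M) (h : ∀ x ∈ N, f x ∈ N) (n : ℕ) (x : N) :
    (((restrictTo f N h ^ n) x : N) : M) = (f ^ n) x := by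
  induction n generalizing x with
  | zero => rfl
  | succ n ih => rw [pow_succ, pow_succ, MulAut.mul_apply, MulAut.mul_apply, ih, coe_restrictTo]

theorem cop_restrictTo {σ : MulAut M} {r : ℕ} (hσ : Cop σ r) (N : Subgroup M)
    (h : ∀ x ∈ N, σ x ∈ N) : Cop (restrictTo σ N h) r :=
  ⟨hσ.prime, MulEquiv.ext fun x => Subtype.ext (by rw [restrictTo_pow, hσ.pow]; rfl),
    fun hd => hσ.cop (hd.trans (Subgroup.card_subgroup_dvd_card N))⟩

/-- The restriction of an action. -/
noncomputable def restrictHom {E : Type v} [Group E] (θ : E →* MulAut M) (N : Subgroup M)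
    (h : ∀ e, ∀ x ∈ N, θ e x ∈ N) : E →* MulAut N where
  toFun e := restrictTo (θ e) N (h e)
  map_one' := MulEquiv.ext fun x => Subtype.ext (by rw [coe_restrictTo, map_one]; rfl)
  map_mul' a b := MulEquiv.ext fun x => Subtype.ext (by
    rw [MulAut.mul_apply, coe_restrictTo, coe_restrictTo, coe_restrictTo, map_mul, MulAut.mul_apply])

theorem coe_restrictHom {E : Type v} [Group E] (θ : E →* MulAut M) (N : Subgroup M)
    (h : ∀ e, ∀ x ∈ N, θ e x ∈ N) (e : E) (x : N) :
    ((restrictHom θ N h e x : N) : M) = θ e x := rfl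

variable (N : Subgroup M) [N.Normal]

theorem map_eq_of_le (f : MulAut M) (h : ∀ x ∈ N, f x ∈ N) : N.map f.toMonoidHom = N :=
  Subgroup.eq_of_le_of_card_ge (by rintro _ ⟨x, hx, rfl⟩; exact h x hx)
    (Subgroup.card_map_of_injective f.injective).ge

/-- The automorphism induced on a quotient. -/
noncomputable def quotTo (f : MulAut M) (h : ∀ x ∈ N, f x ∈ N) : MulAut (M ⧸ N) :=
  QuotientGroup.congr N N f (map_eq_of_le N f h)

theorem quotTo_mk (f : MulAut M) (h : ∀ x ∈ N, f x ∈ N) (x : M) :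
    quotTo N f h (x : M ⧸ N) = ((f x : M) : M ⧸ N) := rfl

theorem quotTo_pow (f : MulAut M) (h : ∀ x ∈ N, f x ∈ N) (n : ℕ) (x : M) :
    (quotTo N f h ^ n) (x : M ⧸ N) = (((f ^ n) x : M) : M ⧸ N) := by
  induction n generalizing x with
  | zero => rfl
  | succ n ih => rw [pow_succ, pow_succ, MulAut.mul_apply, MulAut.mul_apply, quotTo_mk, ih]

theorem cop_quotTo {σ : MulAut M} {r : ℕ} (hσ : Cop σ r) (h : ∀ x ∈ N, σ x ∈ N) :
    Cop (quotTo N σ h) r :=
  ⟨hσ.prime, MulEquiv.ext fun x => QuotientGroup.induction_on x fun g => by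
      rw [quotTo_pow, hσ.pow]; rfl,
    fun hd => hσ.cop (hd.trans (Subgroup.card_quotient_dvd_card N))⟩

/-- The action induced on a quotient. -/
noncomputable def quotHom {E : Type v} [Group E] (θ : E →* MulAut M)
    (h : ∀ e, ∀ x ∈ N, θ e x ∈ N) : E →* MulAut (M ⧸ N) where
  toFun e := quotTo N (θ e) (h e)
  map_one' := MulEquiv.ext fun x => QuotientGroup.induction_on x fun g => by
    rw [quotTo_mk, map_one]; rfl
  map_mul' a b := MulEquiv.ext fun x => QuotientGroup.induction_on x fun g => by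
    rw [MulAut.mul_apply, quotTo_mk, quotTo_mk, quotTo_mk, map_mul, MulAut.mul_apply]

theorem quotHom_mk {E : Type v} [Group E] (θ : E →* MulAut M) (h : ∀ e, ∀ x ∈ N, θ e x ∈ N)
    (e : E) (x : M) : quotHom N θ h e (x : M ⧸ N) = ((θ e x : M) : M ⧸ N) := rfl

end Cfsg.Agent.HHShult.Perfect
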