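import Cfsg.Agent.Lib.HHShult.Perfect.Isolated
import Cfsg.Agent.Lib.HHShult.Perfect.Restrict
import Cfsg.Agent.Lib.HHShult.Shult
import Cfsg.Agent.Lib.FPFLie.Thompson

/-!
# A perfect group acting trivially on the fixed points of a coprime automorphism (owner: helper4)

* `apply_eq` : if `E = [E, β]` is perfect and acts on `M` compatibly with coprime automorphisms
  `β`, `σ` of prime order, centralising `C_M(σ)`, then it centralises `M`
-/

set_option autoImplicit false

namespace Cfsg.Agent.HHShult.Perfect

open scoped commutatorElement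

universe u

/-- A perfect group which is `p`-by-2 is trivial. -/
theorem eq_one_of_pTwo {E : Type u} [Group E] [Finite E] {p : ℕ} [Fact p.Prime]
    (hperf : commutator E = ⊤) (h : PTwo p (⊤ : Subgroup E)) (e : E) : e = 1 := by
  haveI : Fact (Nat.Prime 2) := ⟨Nat.prime_two⟩
  set N := pc p (⊤ : Subgroup E)
  haveI hn : N.Normal :=
    ⟨fun x hx g => conj_mem_pc (Subgroup.le_normalizer (Subgroup.mem_top g)) hx⟩
  have hq : IsPGroup 2 (E ⧸ N) := fun y => by
    induction y using QuotientGroup.induction_on with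
    | H y =>
      obtain ⟨i, hi⟩ := h y (Subgroup.mem_top y)
      exact ⟨i, by rw [← QuotientGroup.mk_pow, QuotientGroup.eq_one_iff]; exact hi⟩
  haveI := hq.isNilpotent
  have htop : N = ⊤ := by
    by_contra hne
    haveI : Nontrivial (E ⧸ N) := QuotientGroup.nontrivial_iff.2 hne
    refine (IsSolvable.commutator_lt_top_of_nontrivial (E ⧸ N)).ne ?_
    rw [commutator_def, ← Subgroup.map_top_of_surjective _ (QuotientGroup.mk'_surjective N),
      ← Subgroup.map_commutator, ← commutator_def, hperf]
  have hp : IsPGroup p E := ((isPGroup_pc p (⊤ : Subgroup E))).of_equiv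
    ((MulEquiv.subgroupCongr htop).trans Subgroup.topEquiv)
  haveI := hp.isNilpotent
  by_contra he
  haveI : Nontrivial E := ⟨⟨e, 1, he⟩⟩
  exact (IsSolvable.commutator_lt_top_of_nontrivial E).ne hperf

/-- Automorphisms of an elementary abelian group as linear maps. -/
def linAut (M : Type u) [CommGroup M] (q : ℕ) [Module (ZMod q) (Additive M)] :
    MulAut M →* Module.End (ZMod q) (Additive M) where
  toFun f := (MonoidHom.toAdditive f.toMonoidHom).toZModLinearMap q
  map_one' := LinearMap.ext fun _ => rfl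
  map_mul' _ _ := LinearMap.ext fun _ => rfl

theorem linAut_apply {M : Type u} [CommGroup M] {q : ℕ} [Module (ZMod q) (Additive M)]
    (f : MulAut M) (v : Additive M) : linAut M q f v = Additive.ofMul (f v.toMul) := rfl

section Step

variable {M : Type u} [Group M] [Finite M] {E : Type u} [Group E] [Finite E] {r : ℕ}
  {σ : MulAut M} {β : MulAut E} {θ : E →* MulAut M}

omit [Finite M] [Finite E] in
theorem range_perfect (hperf : commutator E = ⊤) : ⁅θ.range, θ.range⁆ = θ.range := by
  rw [MonoidHom.range_eq_map, ← Subgroup.map_commutator, ← commutator_def, hperf]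

omit [Finite M] [Finite E] in
theorem conj_theta (hcompat : ∀ e x, σ (θ e x) = θ (β e) (σ x)) (e : E) :
    σ * θ e * σ⁻¹ = θ (β e) :=
  mul_inv_eq_iff_eq_mul.2 (MulEquiv.ext fun x => hcompat e x)

/-- The abelian case, with the module structure given. -/
theorem apply_eq_abelian_aux {M : Type u} [CommGroup M] [Finite M] {q : ℕ} [Fact q.Prime]
    [Module (ZMod q) (Additive M)] {σ : MulAut M} {θ : E →* MulAut M}
    (hσ : Cop σ r) (hβ : Cop β r) (hperf : commutator E = ⊤)
    (hcm : cm β ⊤ = ⊤) (hcompat : ∀ e x, σ (θ e x) = θ (β e) (σ x))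
    (hfpf : ∀ x, σ x = x → x = 1) (e : E) (x : M) : θ e x = x := by
  haveI : Module.Finite (ZMod q) (Additive M) := Module.Finite.of_finite
  haveI : Finite (MulAut M) :=
    Finite.of_injective (fun f : MulAut M => (f : M → M)) DFunLike.coe_injective
  set A := θ.range
  have hA : ∀ a ∈ A, MulAut.conj σ a ∈ A := by
    rintro _ ⟨f, rfl⟩
    exact ⟨β f, (conj_theta hcompat f).symm⟩
  let α : MulAut A := restrictTo (MulAut.conj σ) A hA
  have hα : ∀ f, θ.rangeRestrict (β f) = α (θ.rangeRestrict f) := fun f =>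
    Subtype.ext (by rw [coe_restrictTo]; exact (conj_theta hcompat f).symm)
  have hc : Cop α r := by
    refine ⟨hσ.prime, MulEquiv.ext fun a => Subtype.ext ?_, fun h => hβ.cop
      (h.trans (Subgroup.card_range_dvd θ))⟩
    rw [restrictTo_pow, ← map_pow, hσ.pow, map_one]
    rfl
  have hgen : cm α ⊤ = ⊤ := by
    rw [← Subgroup.map_top_of_surjective _ θ.rangeRestrict_surjective, ← map_cm _ hα, hcm]
  let ρ : A →* Module.End (ZMod q) (Additive M) := (linAut M q).comp A.subtype
  have hρ : Function.Injective ρ := fun a b h => Subtype.ext (MulEquiv.ext fun m =>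
    Additive.ofMul.injective (LinearMap.congr_fun h (Additive.ofMul m)))
  have hP : PTwo q (cm α ⊤) := pTwo_of_fpf noSetting hc ρ hρ (linAut M q σ)
    (by rw [← map_pow, hσ.pow, map_one])
    (fun a => LinearMap.ext fun v => by
      obtain ⟨f, hf⟩ := a.2
      simp only [ρ, MonoidHom.coe_comp, Function.comp_apply, Module.End.mul_apply, linAut_apply,
        toMul_ofMul, Subgroup.coe_subtype, α, coe_restrictTo]
      rw [← hf, MulAut.conj_apply, conj_theta hcompat]
      exact congrArg Additive.ofMul (hcompat f _))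
    (fun v hv => congrArg Additive.ofMul (hfpf v.toMul (congrArg Additive.toMul hv)))
  rw [hgen] at hP
  have hperfA : commutator A = ⊤ := by
    apply Subgroup.map_injective A.subtype_injective
    rw [Subgroup.map_subtype_commutator, range_perfect hperf, ← MonoidHom.range_eq_map,
      Subgroup.range_subtype]
  have h1 := eq_one_of_pTwo hperfA hP ⟨θ e, e, rfl⟩
  rw [show θ e = 1 from congrArg Subtype.val h1, MulAut.one_apply]

/-- The abelian case. -/
theorem apply_eq_abelian {q : ℕ} [Fact q.Prime] (hcomm : ∀ x y : M, x * y = y * x)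
    (hexp : ∀ x : M, x ^ q = 1) (hσ : Cop σ r) (hβ : Cop β r) (hperf : commutator E = ⊤)
    (hcm : cm β ⊤ = ⊤) (hcompat : ∀ e x, σ (θ e x) = θ (β e) (σ x))
    (hfpf : ∀ x, σ x = x → x = 1) (e : E) (x : M) : θ e x = x := by
  letI : CommGroup M := { (inferInstance : Group M) with mul_comm := hcomm }
  letI : Module (ZMod q) (Additive M) := AddCommGroup.zmodModule fun v =>
    congrArg Additive.ofMul (hexp v.toMul)
  exact apply_eq_abelian_aux (q := q) hσ hβ hperf hcm hcompat hfpf e x

omit [Finite M] [Finite E] in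
theorem inv_fixed (hcompat : ∀ e x, σ (θ e x) = θ (β e) (σ x)) {x : M} (hx : ∀ e, θ e x = x)
    (e : E) : θ e (σ x) = σ x := by
  obtain ⟨f, rfl⟩ := β.surjective e
  rw [← hcompat, hx]

end Step

/-- The statement for groups of order at most `n`. -/
def Holds (n : ℕ) : Prop :=
  ∀ (M : Type u) [Group M] [Finite M], Nat.card M ≤ n → ∀ (E : Type u) [Group E] [Finite E]
    (r : ℕ) (σ : MulAut M) (β : MulAut E), Cop σ r → Cop β r → commutator E = ⊤ → cm β ⊤ = ⊤ →
    ∀ θ : E →* MulAut M, (∀ e x, σ (θ e x) = θ (β e) (σ x)) →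
    (∀ x, σ x = x → ∀ e, θ e x = x) → ∀ e x, θ e x = x

theorem holds : ∀ n : ℕ, Holds.{u} n := by
  intro n
  induction n with
  | zero =>
    intro M _ _ hM
    have := Nat.card_pos (α := M)
    omega
  | succ n ih =>
    intro M _ _ hM E _ _ r σ β hσ hβ hperf hcm θ hcompat hfix
    classical
    haveI : Fact (Nat.Prime 2) := ⟨Nat.prime_two⟩
    haveI : Finite (MulAut M) :=
      Finite.of_injective (fun f : MulAut M => (f : M → M)) DFunLike.coe_injective
    -- the induction hypothesis on a proper subgroup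
    have hsub : ∀ (E' : Type u) [Group E'] [Finite E'] (β' : MulAut E'), Cop β' r →
        commutator E' = ⊤ → cm β' ⊤ = ⊤ → ∀ θ' : E' →* MulAut M,
        (∀ e x, σ (θ' e x) = θ' (β' e) (σ x)) → ∀ N : Subgroup M, N ≠ ⊤ → (∀ x ∈ N, σ x ∈ N) →
        (∀ e, ∀ x ∈ N, θ' e x ∈ N) → (∀ x ∈ N, σ x = x → ∀ e, θ' e x = x) →
        ∀ e, ∀ x ∈ N, θ' e x = x := by
      intro E' _ _ β' hβ' hperf' hcm' θ' hcompat' N hN hσN hθN hfixN e x hx
      have hlt : Nat.card N < Nat.card M :=
        lt_of_le_of_ne (Subgroup.card_le_card_group N) fun h => hN (Subgroup.eq_top_of_card_eq _ h)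
      have := ih N (by omega) E' r (restrictTo σ N hσN) β' (cop_restrictTo hσ N hσN) hβ' hperf'
        hcm' (restrictHom θ' N hθN) (fun f y => Subtype.ext (hcompat' f y))
        (fun y hy f => Subtype.ext (hfixN y y.2 (congrArg Subtype.val hy) f)) e ⟨x, hx⟩
      exact congrArg Subtype.val this
    set A := θ.range with hAdef
    have hA : ⁅A, A⁆ = A := range_perfect hperf
    -- a proper invariant normal subgroup
    by_cases hex : ∃ N : Subgroup M, N.Normal ∧ (∀ x ∈ N, σ x ∈ N) ∧ (∀ e, ∀ x ∈ N, θ e x ∈ N) ∧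
        N ≠ ⊥ ∧ N ≠ ⊤
    · obtain ⟨N, hNn, hσN, hθN, hN0, hN1⟩ := hex
      have hfN := hsub E β hβ hperf hcm θ hcompat N hN1 hσN hθN (fun x _ => hfix x)
      intro e x
      have hlt : Nat.card (M ⧸ N) < Nat.card M := by
        rw [N.card_eq_card_quotient_mul_card_subgroup]
        exact lt_mul_of_one_lt_right Nat.card_pos (N.one_lt_card_iff_ne_bot.2 hN0)
      have hq := ih (M ⧸ N) (by omega) E r (quotTo N σ hσN) β (cop_quotTo N hσ hσN) hβ hperf hcm
        (quotHom N θ hθN)
        (fun f y => QuotientGroup.induction_on y fun m => by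
          rw [quotHom_mk, quotTo_mk, quotTo_mk, quotHom_mk, hcompat])
        (fun y hy f => by
          obtain ⟨m, rfl⟩ := QuotientGroup.mk'_surjective N y
          obtain ⟨c, hc, hcm'⟩ := hσ.exists_fix_preimage (QuotientGroup.mk' N) (quotTo N σ hσN)
            (fun _ => rfl) (g := m) hy
          rw [← hcm']
          show quotHom N θ hθN f ((c : M) : M ⧸ N) = _
          rw [quotHom_mk, hfix c hc f]
          rfl)
      refine apply_eq_of_mul hA (C := N ⊓ Subgroup.centralizer (N : Set M))
        (fun c hc d hd => Subgroup.mem_centralizer_iff.1 hd.2 c hc.1)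
        (by rintro _ ⟨f, rfl⟩ c hc; exact hfN f c hc.1) ?_ ⟨e, rfl⟩
      rintro _ ⟨f, rfl⟩
      refine ⟨QuotientGroup.eq.1 (by rw [← quotHom_mk N θ hθN f x, hq]),
        Subgroup.mem_centralizer_iff.2 fun y hy => ?_⟩
      have h1 := hfN f _ (hNn.conj_mem y hy x)
      rw [map_mul, map_mul, map_inv, hfN f y hy] at h1
      calc y * (x⁻¹ * θ f x) = x⁻¹ * (x * y * x⁻¹) * θ f x := by group
        _ = x⁻¹ * (θ f x * y * (θ f x)⁻¹) * θ f x := by rw [h1]
        _ = _ := by group
    push Not at hex
    have hsimple : ∀ N : Subgroup M, N.Normal → (∀ x ∈ N, σ x ∈ N) → (∀ e, ∀ x ∈ N, θ e x ∈ N) →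
        N = ⊥ ∨ N = ⊤ := fun N h1 h2 h3 => or_iff_not_imp_left.2 fun h4 => hex N h1 h2 h3 h4
    have hchar : ∀ N : Subgroup M, N.Characteristic → N = ⊥ ∨ N = ⊤ := fun N hN =>
      hsimple N inferInstance
        (fun x hx => Subgroup.characteristic_iff_map_le.1 hN σ ⟨x, hx, rfl⟩)
        (fun e x hx => Subgroup.characteristic_iff_map_le.1 hN (θ e) ⟨x, hx, rfl⟩)
    -- the fixed subgroup of the action
    let Y : Subgroup M :=
      { carrier := {x | ∀ e, θ e x = x}
        one_mem' := fun e => map_one _
        mul_mem' := fun ha hb e => by rw [map_mul, ha e, hb e]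
        inv_mem' := fun ha e => by rw [map_inv, ha e] }
    have hσY : Inv σ Y := fun x hx e => inv_fixed hcompat hx e
    have hθY : ∀ e, ∀ x ∈ Y, θ e x ∈ Y := fun e x hx => by rw [hx e]; exact hx
    have hfY : fix σ ≤ Y := fun x hx => hfix x hx
    by_cases hY : Y = ⊤
    · exact fun e x => (hY.ge (Subgroup.mem_top x) : x ∈ Y) e
    by_cases hab : ∀ x y : M, x * y = y * x
    · -- abelian
      rcases subsingleton_or_nontrivial M with h | h
      · exact fun e x => Subsingleton.elim _ _
      obtain ⟨q, hq, hqd⟩ := Nat.exists_prime_and_dvd (Finite.one_lt_card (α := M)).ne'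
      haveI := Fact.mk hq
      let Ω : Subgroup M :=
        { carrier := {x | x ^ q = 1}
          one_mem' := one_pow q
          mul_mem' := fun {a b} (ha : a ^ q = 1) (hb : b ^ q = 1) =>
            show (a * b) ^ q = 1 by rw [(show Commute a b from hab a b).mul_pow, ha, hb, one_mul]
          inv_mem' := fun {a} (ha : a ^ q = 1) => show a⁻¹ ^ q = 1 by rw [inv_pow, ha, inv_one] }
      have hΩ : Ω = ⊤ := (hchar Ω (Subgroup.characteristic_iff_map_le.2 fun f => by
        rintro _ ⟨x, hx, rfl⟩
        show f x ^ q = 1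
        rw [← map_pow, show x ^ q = 1 from hx, map_one])).resolve_left fun h0 => by
          obtain ⟨x, hx⟩ := exists_prime_orderOf_dvd_card' q hqd
          have h1 : x = 1 := Subgroup.mem_bot.1 (h0.le (show x ^ q = 1 by
            rw [← hx]; exact pow_orderOf_eq_one x))
          rw [h1, orderOf_one] at hx
          exact hq.one_lt.ne hx
      have hYn : Y.Normal := ⟨fun x hx g => by rwa [hab g x, mul_inv_cancel_right]⟩
      have hY0 : Y = ⊥ := (hsimple Y hYn hσY hθY).resolve_right hY
      exact apply_eq_abelian hab (fun x => (hΩ.ge (Subgroup.mem_top x) : x ∈ Ω)) hσ hβ hperf hcm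
        hcompat (fun x hx => Subgroup.mem_bot.1 (hY0.le (hfY hx)))
    -- non-abelian: centre and odd core trivial, perfect
    have hZ : Subgroup.center M = ⊥ := (hchar _ inferInstance).resolve_right fun h => hab fun x y =>
      (Subgroup.mem_center_iff.1 (h.ge (Subgroup.mem_top y))) x
    have hM' : commutator M = ⊤ := (hchar _ inferInstance).resolve_left fun h => hab fun x y =>
      commutatorElement_eq_one_iff_mul_comm.1 (Subgroup.mem_bot.1 (h.le (by
        rw [commutator_def]
        exact Subgroup.commutator_mem_commutator (Subgroup.mem_top x) (Subgroup.mem_top y))))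
    have hns : ¬ Group.IsSolvable M := fun hs => by
      haveI := hs
      haveI : Nontrivial M := not_subsingleton_iff_nontrivial.1 fun h => hab fun x y =>
        Subsingleton.elim _ _
      exact (IsSolvable.commutator_lt_top_of_nontrivial M).ne hM'
    have hO : Cfsg.pPrimeCore 2 M = ⊥ := by
      refine (hsimple _ inferInstance ?_ ?_).resolve_right fun h => hns ?_
      · intro x hx; rw [← Cores.pPrimeCore_map_mulEquiv σ 2]; exact ⟨x, hx, rfl⟩
      · intro e x hx; rw [← Cores.pPrimeCore_map_mulEquiv (θ e) 2]; exact ⟨x, hx, rfl⟩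
      · refine OddOrderTheorem.solvable ?_
        have := Cores.coprime_card_pPrimeCore (G := M) 2
        rw [h, Nat.card_congr Subgroup.topEquiv.toEquiv, Nat.coprime_two_right] at this
        exact this
    have hp2 : ∀ Q : Subgroup M, IsPGroup 2 Q → Q ≠ ⊤ := fun Q hQ h => hns (by
      haveI := (hQ.of_equiv ((MulEquiv.subgroupCongr h).trans Subgroup.topEquiv)).isNilpotent
      infer_instance)
    have mkSylow : ∀ Q : Subgroup M, Fusion.IsSylowIn 2 Q ⊤ →
        ∃ P : Sylow 2 M, (P : Subgroup M) = Q := fun Q hQ => ⟨Sylow.ofCard Q (by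
      rw [hQ.card, Nat.card_congr (Subgroup.topEquiv (G := M)).toEquiv]), rfl⟩
    have hθ : θ.range = ⊥ → ∀ e x, θ e x = x := fun h e x => by
      rw [Subgroup.mem_bot.1 (h.le ⟨e, rfl⟩), MulAut.one_apply]
    by_cases hYe : 2 ∣ Nat.card Y
    · -- `Y` has even order
      obtain ⟨Q, hQi, hQ⟩ := hσ.exists_inv_sylow 2 (H := Y) hσY
      have hQ0 : Q ≠ ⊥ := fun h => by
        have h1 := hQ.card
        rw [h, Subgroup.card_bot] at h1
        have h2 := Nat.Prime.factorization_pos_of_dvd Nat.prime_two Nat.card_pos.ne' hYe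
        have h3 := Nat.one_lt_two_pow h2.ne'
        omega
      set N := Subgroup.normalizer (Q : Set M) with hN
      have hNθ : ∀ e, ∀ x ∈ N, θ e x ∈ N := fun e x hx =>
        Coprime.mem_normalizer_of_forall fun y hy => by
          have h1 : x * y * x⁻¹ ∈ Q := (Subgroup.mem_normalizer_iff.1 hx y).1 hy
          have h2 : θ e x * y * (θ e x)⁻¹ = x * y * x⁻¹ := by
            calc θ e x * y * (θ e x)⁻¹ = θ e x * θ e y * (θ e x)⁻¹ := by rw [hQ.1 hy e]
              _ = θ e (x * y * x⁻¹) := by rw [map_mul, map_mul, map_inv]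
              _ = _ := hQ.1 h1 e
          rw [h2]; exact h1
      have hN1 : N ≠ ⊤ := fun h => by
        rcases hsimple Q (Subgroup.normalizer_eq_top_iff.1 h) hQi
          (fun e x hx => by rw [hQ.1 hx e]; exact hx) with h' | h'
        · exact hQ0 h'
        · exact hp2 Q hQ.2.1 h'
      have hNY : ∀ x ∈ N, x ∈ Y := fun x hx e =>
        hsub E β hβ hperf hcm θ hcompat N hN1 (hσ.inv_normalizer hQi) hNθ (fun y _ => hfix y) e x hx
      obtain ⟨P', hQP, hP'i, hP'⟩ := hσ.exists_inv_sylow_ge inv_top le_top hQ.2.1 hQi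
      have hQP' : Q = P' := by
        by_contra hne
        have hlt : Q.subgroupOf P' < ⊤ := by
          rw [lt_top_iff_ne_top, Ne, Subgroup.subgroupOf_eq_top]
          exact fun hge => hne (le_antisymm hQP hge)
        obtain ⟨⟨x, hxP⟩, hxN, hxQ⟩ := SetLike.exists_of_lt
          (Group.normalizerCondition_of_isNilpotent (h := hP'.2.1.isNilpotent) _ hlt)
        have hxY : x ∈ Y := hNY x (Coprime.mem_normalizer_of_forall fun y hy =>
          (Subgroup.mem_normalizer_iff.1 hxN ⟨y, hQP hy⟩).1 hy)
        have h1 := hQ.2.2 (P' ⊓ Y) (le_inf hQP hQ.1) inf_le_right (hP'.2.1.to_inf_left)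
        exact hxQ (show x ∈ Q from h1 ▸ ⟨hxP, hxY⟩)
      obtain ⟨P, hP⟩ := mkSylow P' hP'
      have hPY : ∀ y ∈ P, ∀ e, θ e y = y := fun y hy =>
        hQ.1 (hQP'.ge (hP.le hy))
      set Z := (P : Subgroup M) ⊓ Subgroup.centralizer ((P : Subgroup M) : Set M) with hZdef
      have hPi : Inv σ (P : Subgroup M) := by rw [hP]; exact hP'i
      have hCi : Inv σ (Subgroup.centralizer (Z : Set M)) :=
        hσ.inv_centralizer (hPi.inf (hσ.inv_centralizer hPi))
      have hCθ : ∀ e, ∀ x ∈ Subgroup.centralizer (Z : Set M),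
          θ e x ∈ Subgroup.centralizer (Z : Set M) := fun e x hx =>
        Subgroup.mem_centralizer_iff.2 fun z hz => by
          have h := congrArg (θ e) (Subgroup.mem_centralizer_iff.1 hx z hz)
          rwa [map_mul, map_mul, hPY z hz.1 e] at h
      have hC1 : Subgroup.centralizer (Z : Set M) ≠ ⊤ := fun h => by
        have hle : Z ≤ Subgroup.center M := fun z hz => Subgroup.mem_center_iff.2 fun g =>
          (Subgroup.mem_centralizer_iff.1 (h.ge (Subgroup.mem_top g)) z hz).symm
        rw [hZ, le_bot_iff] at hle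
        have hPne : (P : Subgroup M) ≠ ⊥ := by rw [hP, ← hQP']; exact hQ0
        haveI : Nontrivial (P : Subgroup M) := (Subgroup.nontrivial_iff_ne_bot _).2 hPne
        haveI := P.2.center_nontrivial
        obtain ⟨⟨z, hz⟩, hz1⟩ := exists_ne (1 : Subgroup.center (P : Subgroup M))
        have hzZ : (z : M) ∈ Z := ⟨z.2, Subgroup.mem_centralizer_iff.2 fun y hy =>
          congrArg Subtype.val (Subgroup.mem_center_iff.1 hz ⟨y, hy⟩)⟩
        rw [hle, Subgroup.mem_bot] at hzZ
        exact hz1 (Subtype.ext (Subtype.ext hzZ))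
      refine hθ (eq_bot_of_fix_sylow hA hO P (by rintro _ ⟨e, rfl⟩ y hy; exact hPY y hy e) ?_)
      rintro _ ⟨e, rfl⟩ y hy
      exact hsub E β hβ hperf hcm θ hcompat _ hC1 hCi hCθ (fun y _ => hfix y) e y hy
    · -- `Y` has odd order
      obtain ⟨Q, hQi, hQ⟩ := hσ.exists_inv_sylow 2 (inv_top (α := σ))
      obtain ⟨P, rfl⟩ := mkSylow Q hQ
      have hYP : ∀ x ∈ (P : Subgroup M), x ∈ Y → x = 1 := fun x hx hxY => by
        obtain ⟨i, hi⟩ := P.2.exists_card_eq
        refine orderOf_eq_one_iff.1 (Nat.eq_one_of_dvd_coprimes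
          (((Nat.prime_two.coprime_iff_not_dvd).2 hYe).pow_left i)
          (hi ▸ Subgroup.orderOf_dvd_natCard (s := (P : Subgroup M)) hx)
          (Subgroup.orderOf_dvd_natCard (s := Y) hxY))
      -- the supplement
      set I : Subgroup (MulAut M) := (MulAut.conj (G := M)).range with hI
      haveI hIn : I.Normal := ⟨by
        rintro _ ⟨m, rfl⟩ f
        exact ⟨f m, MulEquiv.ext fun x => by
          simp [MulAut.conj_apply, map_mul, map_inv]⟩⟩
      set c : MulAut (MulAut M) := MulAut.conj σ with hc
      have hAc : ∀ a ∈ A, c a ∈ A := by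
        rintro _ ⟨f, rfl⟩
        exact ⟨β f, (conj_theta hcompat f).symm⟩
      have hIc : ∀ a ∈ I, c a ∈ I := fun a ha => hIn.conj_mem a ha σ
      let St : Subgroup (MulAut M) :=
        { carrier := {f | (P : Subgroup M).map f.toMonoidHom = (P : Subgroup M)}
          one_mem' := by
            show (P : Subgroup M).map (MonoidHom.id M) = (P : Subgroup M)
            exact Subgroup.map_id _
          mul_mem' := fun {a b} (ha : (P : Subgroup M).map a.toMonoidHom = P)
            (hb : (P : Subgroup M).map b.toMonoidHom = P) => by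
            show (P : Subgroup M).map (a.toMonoidHom.comp b.toMonoidHom) = P
            rw [← Subgroup.map_map, hb, ha]
          inv_mem' := fun {a} (ha : (P : Subgroup M).map a.toMonoidHom = P) => by
            show (P : Subgroup M).map (a⁻¹ : MulAut M).toMonoidHom = P
            conv_lhs => rw [← ha, Subgroup.map_map]
            have e : (a⁻¹ : MulAut M).toMonoidHom.comp a.toMonoidHom = MonoidHom.id M :=
              MonoidHom.ext fun x => a.symm_apply_apply x
            rw [e, Subgroup.map_id] }
      have hσSt : σ ∈ St := hσ.map_eq hQi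
      let L : Subgroup (MulAut M) := (A ⊔ I) ⊓ St
      have hLc : ∀ a ∈ L, c a ∈ L := fun a ha => ⟨by
        obtain ⟨a', ha', i, hi, e⟩ := Subgroup.mem_sup_of_normal_right.1 ha.1
        rw [← e, map_mul]
        exact Subgroup.mul_mem_sup (hAc a' ha') (hIc i hi),
        St.mul_mem (St.mul_mem hσSt ha.2) (St.inv_mem hσSt)⟩
      have hcov : A ≤ L ⊔ I := by
        intro a ha
        obtain ⟨m, hm⟩ := MulAction.exists_smul_eq M P (a • P)
        set l := (MulAut.conj m)⁻¹ * a with hl
        have hlL : l ∈ L := by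
          refine ⟨mul_mem (Subgroup.mem_sup_right (inv_mem ⟨m, rfl⟩)) (Subgroup.mem_sup_left ha), ?_⟩
          have hm' : (P : Subgroup M).map (MulAut.conj m).toMonoidHom =
              (P : Subgroup M).map a.toMonoidHom := congrArg (fun S : Sylow 2 M => (S : Subgroup M)) hm
          show (P : Subgroup M).map ((MulAut.conj m)⁻¹.toMonoidHom.comp a.toMonoidHom) = P
          rw [← Subgroup.map_map, ← hm', Subgroup.map_map]
          have e : ((MulAut.conj m)⁻¹ : MulAut M).toMonoidHom.comp (MulAut.conj m).toMonoidHom =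
              MonoidHom.id M := MonoidHom.ext fun x => (MulAut.conj m).symm_apply_apply x
          rw [e, Subgroup.map_id]
        have e : a = MulAut.conj m * l := by rw [hl, mul_inv_cancel_left]
        rw [e]
        exact mul_mem (Subgroup.mem_sup_right ⟨m, rfl⟩) (Subgroup.mem_sup_left hlL)
      obtain ⟨K, ⟨hKL, hKc, hKA⟩, hKmin⟩ := Set.exists_min_image
        {K : Subgroup (MulAut M) | K ≤ L ∧ (∀ a ∈ K, c a ∈ K) ∧ A ≤ K ⊔ I}
        (fun K => Nat.card K) (Set.toFinite _) ⟨L, le_rfl, hLc, hcov⟩
      have hmin : ∀ K', K' ≤ K → (∀ a ∈ K', c a ∈ K') → A ≤ K' ⊔ I → K' = K := fun K' h1 h2 h3 =>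
        Subgroup.eq_of_le_of_card_ge h1 (hKmin K' ⟨h1.trans hKL, h2, h3⟩)
      set q := QuotientGroup.mk' I
      have hqI : ∀ K', A.map q ≤ K'.map q → A ≤ K' ⊔ I := fun K' h => by
        have h1 := Subgroup.map_le_iff_le_comap.1 h
        rwa [Subgroup.comap_map_eq, QuotientGroup.ker_mk'] at h1
      have hqK : A.map q ≤ K.map q := by
        refine (Subgroup.map_mono hKA).trans (le_of_eq ?_)
        rw [Subgroup.map_sup, (Subgroup.map_eq_bot_iff I).2 (QuotientGroup.ker_mk' I).ge, sup_bot_eq]
      have hKperf : ⁅K, K⁆ = K := by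
        refine hmin _ (Subgroup.commutator_le.2 fun a ha b hb => ?_) (fun a ha => ?_)
          (hqI _ ?_)
        · rw [commutatorElement_def]
          exact K.mul_mem (K.mul_mem (K.mul_mem ha hb) (K.inv_mem ha)) (K.inv_mem hb)
        · have h1 : c a ∈ (⁅K, K⁆).map c.toMonoidHom := ⟨a, ha, rfl⟩
          rw [Subgroup.map_commutator] at h1
          refine Subgroup.commutator_mono ?_ ?_ h1 <;>
            (rintro _ ⟨b, hb, rfl⟩; exact hKc b hb)
        · rw [← hA, Subgroup.map_commutator, Subgroup.map_commutator]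
          exact Subgroup.commutator_mono hqK hqK
      have hKcm : cm c K = K := by
        refine hmin _ (cm_le hKc) (inv_cm hKc) (hqI _ ?_)
        -- `[A, σ] = A` modulo `I`
        have hAcm : cm c A = A := by
          rw [hAdef, MonoidHom.range_eq_map,
            ← map_cm θ (fun f => (conj_theta hcompat f).symm), hcm]
        rw [← hAcm, cm, MonoidHom.map_closure, Subgroup.closure_le]
        rintro _ ⟨_, ⟨a, ha, rfl⟩, rfl⟩
        obtain ⟨b, hb, hqb⟩ := hqK ⟨a, ha, rfl⟩
        refine ⟨b⁻¹ * c b, subset_cm hb, ?_⟩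
        have h1 : q (c b) = q (c a) := by
          show q (σ * b * σ⁻¹) = q (σ * a * σ⁻¹)
          simp only [map_mul, hqb]
        show q (b⁻¹ * c b) = q (a⁻¹ * c a)
        rw [map_mul, map_mul, map_inv, map_inv, h1, hqb]
      -- `K` fixes `P` and `C(Z(P))`
      set β' : MulAut K := restrictTo c K hKc with hβ'def
      have hcop' : Cop β' r := by
        refine ⟨hσ.prime, MulEquiv.ext fun a => Subtype.ext ?_, fun h => ?_⟩
        · rw [restrictTo_pow, hc, ← map_pow, hσ.pow, map_one]; rfl
        · have h1 : r ∣ Nat.card A * Nat.card I :=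
            (h.trans (Subgroup.card_dvd_of_le (hKL.trans inf_le_left))).trans
              (Cores.card_sup_dvd A I)
          rcases (Nat.Prime.dvd_mul hσ.prime).1 h1 with h2 | h2
          · exact hβ.cop (h2.trans (Subgroup.card_range_dvd θ))
          · exact hσ.cop (h2.trans (Subgroup.card_range_dvd _))
      have hperf' : commutator K = ⊤ := by
        apply Subgroup.map_injective K.subtype_injective
        rw [Subgroup.map_subtype_commutator, hKperf, ← MonoidHom.range_eq_map, Subgroup.range_subtype]
      have hcm' : cm β' ⊤ = ⊤ := by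
        apply Subgroup.map_injective K.subtype_injective
        rw [map_cm K.subtype (α := β') (β := c) (fun a => coe_restrictTo c K hKc a), ← MonoidHom.range_eq_map,
          Subgroup.range_subtype, hKcm]
      have hcompat' : ∀ (f : K) x, σ (K.subtype f x) = K.subtype (β' f) (σ x) := fun f x => by
        show σ ((f : MulAut M) x) = ((β' f : K) : MulAut M) (σ x)
        rw [hβ'def, coe_restrictTo, hc, MulAut.conj_apply, MulAut.mul_apply, MulAut.mul_apply,
          MulAut.inv_apply_self]
      have hKP : ∀ f : K, ∀ x ∈ (P : Subgroup M), (f : MulAut M) x ∈ (P : Subgroup M) :=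
        fun f x hx => (hKL f.2).2.le ⟨x, hx, rfl⟩
      have hKfixP : ∀ f : K, ∀ x ∈ (P : Subgroup M), (f : MulAut M) x = x :=
        hsub K β' hcop' hperf' hcm' K.subtype hcompat' P (hp2 _ P.2) hQi hKP
          (fun x hx hxσ f => by rw [hYP x hx (hfY hxσ)]; exact map_one _)
      set Z := (P : Subgroup M) ⊓ Subgroup.centralizer ((P : Subgroup M) : Set M) with hZdef
      have hPne : (P : Subgroup M) ≠ ⊥ := fun h => hns (OddOrderTheorem.solvable (by
        by_contra he
        haveI : Fact (Nat.Prime 2) := ⟨Nat.prime_two⟩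
        exact P.ne_bot_of_dvd_card (even_iff_two_dvd.1 (Nat.not_odd_iff_even.1 he)) h))
      have hZ0 : Z ≠ ⊥ := fun h => by
        haveI : Nontrivial (P : Subgroup M) := (Subgroup.nontrivial_iff_ne_bot _).2 hPne
        haveI := P.2.center_nontrivial
        obtain ⟨⟨z, hz⟩, hz1⟩ := exists_ne (1 : Subgroup.center (P : Subgroup M))
        have hzZ : (z : M) ∈ Z := ⟨z.2, Subgroup.mem_centralizer_iff.2 fun y hy =>
          congrArg Subtype.val (Subgroup.mem_center_iff.1 hz ⟨y, hy⟩)⟩
        rw [h, Subgroup.mem_bot] at hzZ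
        exact hz1 (Subtype.ext (Subtype.ext hzZ))
      have hZi : Inv σ Z := hQi.inf (hσ.inv_centralizer hQi)
      have hC1 : Subgroup.centralizer (Z : Set M) ≠ ⊤ := fun h => hZ0 (le_bot_iff.1 (hZ.le.trans'
        fun z hz => Subgroup.mem_center_iff.2 fun g =>
          (Subgroup.mem_centralizer_iff.1 (h.ge (Subgroup.mem_top g)) z hz).symm))
      have hCθ : ∀ f : K, ∀ x ∈ Subgroup.centralizer (Z : Set M),
          (f : MulAut M) x ∈ Subgroup.centralizer (Z : Set M) := fun f x hx =>
        Subgroup.mem_centralizer_iff.2 fun z hz => by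
          have h := congrArg (f : MulAut M) (Subgroup.mem_centralizer_iff.1 hx z hz)
          rwa [map_mul, map_mul, hKfixP f z hz.1] at h
      have hCfree : ∀ x ∈ Subgroup.centralizer (Z : Set M), σ x = x → x = 1 := by
        intro x hx hxσ
        by_contra hx1
        obtain ⟨z, hz, hz1⟩ := (Subgroup.bot_or_exists_ne_one Z).resolve_left hZ0
        refine hz1 (hYP z hz.1 fun e => ?_)
        have hne : Subgroup.centralizer ({x} : Set M) ≠ ⊤ := fun h => hx1 (Subgroup.mem_bot.1
          (hZ.le (Subgroup.mem_center_iff.2 fun g =>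
            Subgroup.mem_centralizer_singleton_iff.1 (h.ge (Subgroup.mem_top g)))))
        exact hsub E β hβ hperf hcm θ hcompat _ hne (Cop.inv_centralizer_singleton hxσ)
          (fun f y hy => by
            rw [Subgroup.mem_centralizer_singleton_iff] at hy ⊢
            have := congrArg (θ f) hy
            rwa [map_mul, map_mul, hfix x hxσ f] at this)
          (fun y _ => hfix y) e z (Subgroup.mem_centralizer_singleton_iff.2
            (Subgroup.mem_centralizer_iff.1 hx z hz))
      have hKbot : K = ⊥ := eq_bot_of_fix_sylow hKperf hO P (fun a ha => hKfixP ⟨a, ha⟩)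
        (fun a ha y hy => hsub K β' hcop' hperf' hcm' K.subtype hcompat' _ hC1
          (hσ.inv_centralizer hZi) hCθ
          (fun x hx hxσ f => by rw [hCfree x hx hxσ]; exact map_one _) ⟨a, ha⟩ y hy)
      -- so `E` acts by inner automorphisms
      have hAI : A ≤ I := by simpa [hKbot] using hKA
      have hinj : Function.Injective (MulAut.conj (G := M)) := by
        rw [injective_iff_map_eq_one]
        intro m hm
        refine Subgroup.mem_bot.1 (hZ.le (Subgroup.mem_center_iff.2 fun g => ?_))
        have h := DFunLike.congr_fun hm g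
        rw [MulAut.conj_apply, MulAut.one_apply] at h
        exact (mul_inv_eq_iff_eq_mul.1 h).symm
      choose f hf using fun e => hAI ⟨e, rfl⟩
      let F : E →* M :=
        { toFun := f
          map_one' := hinj (by rw [hf, map_one, map_one])
          map_mul' := fun a b => hinj (by rw [hf, map_mul, map_mul, hf, hf]) }
      have hF : ∀ e, MulAut.conj (F e) = θ e := hf
      have hFσ : ∀ e, σ (F e) = F (β e) := fun e => hinj (by
        rw [hF, ← conj_theta hcompat, ← hF]
        exact MulEquiv.ext fun x => by simp [MulAut.conj_apply, map_mul, map_inv])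
      have hFθ : ∀ e x, θ e x = F e * x * (F e)⁻¹ := fun e x => by
        rw [← hF e, MulAut.conj_apply]
      by_cases hE1 : F.range = ⊤
      · -- then `σ` is fixed-point-free
        have hfpf : ∀ x, σ x = x → x = 1 := fun x hx => by
          refine Subgroup.mem_bot.1 (hZ.le (Subgroup.mem_center_iff.2 fun g => ?_))
          obtain ⟨e, rfl⟩ := hE1.ge (Subgroup.mem_top g)
          have h := hfix x hx e
          rw [hFθ] at h
          exact mul_inv_eq_iff_eq_mul.1 h
        refine absurd ?_ hns
        by_cases hσ1 : σ = 1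
        · haveI : Subsingleton M := ⟨fun a b => by
            rw [hfpf a (by rw [hσ1]; rfl), hfpf b (by rw [hσ1]; rfl)]⟩
          infer_instance
        · haveI := Fact.mk hσ.prime
          haveI := FPF.isNilpotent_of_fpf_mulAut σ (orderOf_eq_prime hσ.pow hσ1) hfpf
          infer_instance
      · have h := hsub E β hβ hperf hcm θ hcompat F.range hE1
          (by rintro _ ⟨e, rfl⟩; exact ⟨β e, (hFσ e).symm⟩)
          (by rintro e _ ⟨e', rfl⟩; exact ⟨e * e' * e⁻¹, by rw [hFθ, map_mul, map_mul, map_inv]⟩)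
          (fun x _ => hfix x)
        have hker : commutator E ≤ F.ker := by
          rw [commutator_def, Subgroup.commutator_le]
          intro a _ b _
          rw [MonoidHom.mem_ker, map_commutatorElement, commutatorElement_eq_one_iff_mul_comm]
          have h1 := h a (F b) ⟨b, rfl⟩
          rw [hFθ] at h1
          exact mul_inv_eq_iff_eq_mul.1 h1
        intro e x
        rw [hFθ, MonoidHom.mem_ker.1 (hker (hperf.ge (Subgroup.mem_top e)))]
        simp

/-- A perfect group `E = [E, β]` centralising `C_M(σ)` centralises `M`. -/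
theorem apply_eq {M : Type u} [Group M] [Finite M] {E : Type u} [Group E] [Finite E] {r : ℕ}
    {σ : MulAut M} {β : MulAut E} (hσ : Cop σ r) (hβ : Cop β r) (hperf : commutator E = ⊤)
    (hcm : cm β ⊤ = ⊤) (θ : E →* MulAut M) (hcompat : ∀ e x, σ (θ e x) = θ (β e) (σ x))
    (hfix : ∀ x, σ x = x → ∀ e, θ e x = x) : ∀ e x, θ e x = x :=
  holds (Nat.card M) M le_rfl E r σ β hσ hβ hperf hcm θ hcompat hfix

end Cfsg.Agent.HHShult.Perfect
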